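import Mathlib
import Cfsg.Agent.H887.SiegelMethod
set_option linter.all false

-- part: H137/Pair
section
/-!
# Singer elements in orthogonal groups (helper137)

`K` is a finite extension of the finite field `F`. A `SPair Q K` is a hyperbolic subspace `e K ⊕ f K` of the
quadratic space `(V, Q)` with `polar Q (e x) (f y) = Tr (x y)`. For `c ∈ Kˣ` the element `S c` acts as
multiplication by `c` on `e K`, by `c⁻¹` on `f K` and trivially on the orthogonal complement.
-/

set_option autoImplicit false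

namespace Cfsg.Agent.H137

open QuadraticMap Cfsg.Agent.LieClassical.OrthCore Cfsg.Agent.LieClassical.OrthTrans
  Cfsg.Agent.LieClassical.OrthSimple Cfsg.Agent.ClassicalGeometry.OrthAutBasic

/-! ### Additive subgroups of a finite field closed under multiplication by squares -/

section field

variable {K : Type*} [Field K]

/-- An additive subgroup of a finite field which is invariant under multiplication by nonzero squares
and not zero is everything. -/
theorem mem_of_sq_mul [Finite K] (Y : AddSubgroup K) (hY : ∀ c : K, c ≠ 0 → ∀ y ∈ Y, c ^ 2 * y ∈ Y)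
    {y : K} (hy : y ∈ Y) (hy0 : y ≠ 0) (z : K) : z ∈ Y := by
  have hY' : ∀ c : K, ∀ y ∈ Y, c ^ 2 * y ∈ Y := by
    intro c y hy
    by_cases hc : c = 0
    · rw [hc]; simp
    · exact hY c hc y hy
  have key : ∀ t : K, t * y ∈ Y := by
    intro t
    by_cases h2 : (2 : K) = 0
    · have hch : ringChar K = 2 := by
        refine CharP.ringChar_of_prime_eq_zero Nat.prime_two ?_
        exact_mod_cast h2
      obtain ⟨s, hs⟩ := FiniteField.isSquare_of_char_two hch t
      rw [hs, ← pow_two]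
      exact hY' s y hy
    · have h4 : (4 : K) ≠ 0 := by
        have : (4 : K) = 2 * 2 := by norm_num
        rw [this]
        exact mul_ne_zero h2 h2
      have e : t * y = (t / 4 + 1) ^ 2 * y - (t / 4 - 1) ^ 2 * y := by
        field_simp
        ring
      rw [e]
      exact Y.sub_mem (hY' _ y hy) (hY' _ y hy)
  have := key (z * y⁻¹)
  rwa [mul_assoc, inv_mul_cancel₀ hy0, mul_one] at this

end field

/-! ### The structure -/

variable {F V : Type*} [Field F] [AddCommGroup V] [Module F V]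

/-- A hyperbolic subspace with the structure of a `K`-space. -/
structure SPair (Q : QuadraticForm F V) (K : Type*) [Field K] [Algebra F K] where
  e : K →ₗ[F] V
  f : K →ₗ[F] V
  pe : V →ₗ[F] K
  pf : V →ₗ[F] K
  Qe : ∀ x, Q (e x) = 0
  Qf : ∀ x, Q (f x) = 0
  pf_spec : ∀ x v, polar Q (e x) v = Algebra.trace F K (x * pf v)
  pe_spec : ∀ y v, polar Q (f y) v = Algebra.trace F K (y * pe v)
  pe_e : ∀ x, pe (e x) = x
  pe_f : ∀ x, pe (f x) = 0
  pf_e : ∀ x, pf (e x) = 0
  pf_f : ∀ x, pf (f x) = x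

namespace SPair

variable {Q : QuadraticForm F V} {K : Type*} [Field K] [Algebra F K] (P : SPair Q K)

/-- The linear map `S c`. -/
def SLin (c : K) (c' : K) : V →ₗ[F] V :=
  LinearMap.id + P.e ∘ₗ (LinearMap.mulLeft F (c - 1)) ∘ₗ P.pe + P.f ∘ₗ (LinearMap.mulLeft F (c' - 1)) ∘ₗ P.pf

theorem SLin_apply (c c' : K) (v : V) :
    P.SLin c c' v = v + P.e ((c - 1) * P.pe v) + P.f ((c' - 1) * P.pf v) := rfl

theorem pe_SLin (c c' : K) (v : V) : P.pe (P.SLin c c' v) = c * P.pe v := by
  rw [SLin_apply, map_add, map_add, P.pe_e, P.pe_f]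
  ring

theorem pf_SLin (c c' : K) (v : V) : P.pf (P.SLin c c' v) = c' * P.pf v := by
  rw [SLin_apply, map_add, map_add, P.pf_e, P.pf_f]
  ring

theorem SLin_SLin (c c' d d' : K) (v : V) :
    P.SLin c c' (P.SLin d d' v) = P.SLin (c * d) (c' * d') v := by
  rw [SLin_apply, pe_SLin, pf_SLin, SLin_apply, SLin_apply]
  have e1 : (c * d - 1) * P.pe v = (d - 1) * P.pe v + (c - 1) * (d * P.pe v) := by ring
  have e2 : (c' * d' - 1) * P.pf v = (d' - 1) * P.pf v + (c' - 1) * (d' * P.pf v) := by ring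
  rw [e1, e2, map_add, map_add]
  abel

theorem SLin_one (v : V) : P.SLin 1 1 v = v := by
  rw [SLin_apply]
  simp

/-- The Singer element. -/
def S (c : Kˣ) : V ≃ₗ[F] V :=
  { P.SLin (c : K) (c⁻¹ : Kˣ) with
    invFun := P.SLin (c⁻¹ : Kˣ) (c : K)
    left_inv := by
      intro v
      show P.SLin _ _ (P.SLin _ _ v) = v
      rw [SLin_SLin, ← Units.val_mul, ← Units.val_mul, inv_mul_cancel, mul_inv_cancel, Units.val_one]
      exact P.SLin_one v
    right_inv := by
      intro v
      show P.SLin _ _ (P.SLin _ _ v) = v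
      rw [SLin_SLin, ← Units.val_mul, ← Units.val_mul, inv_mul_cancel, mul_inv_cancel, Units.val_one]
      exact P.SLin_one v }

theorem S_apply (c : Kˣ) (v : V) :
    P.S c v = v + P.e (((c : K) - 1) * P.pe v) + P.f (((c⁻¹ : Kˣ) - 1 : K) * P.pf v) := rfl

theorem S_eq (c : Kˣ) (v : V) : P.S c v = P.SLin (c : K) (c⁻¹ : Kˣ) v := rfl

theorem S_mul (c d : Kˣ) : P.S (c * d) = P.S c * P.S d := by
  ext v
  show P.S (c * d) v = P.S c (P.S d v)
  rw [S_eq, S_eq, S_eq, SLin_SLin, mul_inv, Units.val_mul, Units.val_mul]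

theorem S_one : P.S 1 = 1 := by
  ext v
  show P.S 1 v = v
  rw [S_eq, inv_one, Units.val_one, SLin_one]

/-- `S` as a homomorphism. -/
def SHom : Kˣ →* (V ≃ₗ[F] V) where
  toFun := P.S
  map_one' := P.S_one
  map_mul' := P.S_mul

theorem S_pow (c : Kˣ) (n : ℕ) : P.S (c ^ n) = P.S c ^ n := map_pow P.SHom c n

theorem S_zpow (c : Kˣ) (n : ℤ) : P.S (c ^ n) = P.S c ^ n := map_zpow P.SHom c n

theorem S_e (c : Kˣ) (x : K) : P.S c (P.e x) = P.e (c * x) := by
  rw [S_apply, P.pe_e, P.pf_e, mul_zero, map_zero, add_zero, ← map_add]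
  congr 1; ring

theorem S_f (c : Kˣ) (x : K) : P.S c (P.f x) = P.f ((c⁻¹ : Kˣ) * x) := by
  rw [S_apply, P.pe_f, P.pf_f, mul_zero, map_zero, add_zero, ← map_add]
  congr 1; ring

/-- `v` is orthogonal to the hyperbolic subspace. -/
def Perp (v : V) : Prop := P.pe v = 0 ∧ P.pf v = 0

theorem S_perp (c : Kˣ) {v : V} (h : P.Perp v) : P.S c v = v := by
  rw [S_apply, h.1, h.2, mul_zero, map_zero, mul_zero, map_zero, add_zero, add_zero]

theorem polar_e {v : V} (h : P.Perp v) (x : K) : polar Q (P.e x) v = 0 := by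
  rw [P.pf_spec, h.2, mul_zero, map_zero]

theorem polar_f {v : V} (h : P.Perp v) (x : K) : polar Q (P.f x) v = 0 := by
  rw [P.pe_spec, h.1, mul_zero, map_zero]

theorem polar_e' {v : V} (h : P.Perp v) (x : K) : polar Q v (P.e x) = 0 := by
  rw [polar_comm]; exact P.polar_e h x

theorem polar_f' {v : V} (h : P.Perp v) (x : K) : polar Q v (P.f x) = 0 := by
  rw [polar_comm]; exact P.polar_f h x

theorem polar_e_e (x y : K) : polar Q (P.e x) (P.e y) = 0 := by
  rw [P.pf_spec, P.pf_e, mul_zero, map_zero]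

theorem polar_f_f (x y : K) : polar Q (P.f x) (P.f y) = 0 := by
  rw [P.pe_spec, P.pe_f, mul_zero, map_zero]

theorem polar_e_f (x y : K) : polar Q (P.e x) (P.f y) = Algebra.trace F K (x * y) := by
  rw [P.pf_spec, P.pf_f]

theorem polar_f_e (x y : K) : polar Q (P.f x) (P.e y) = Algebra.trace F K (x * y) := by
  rw [P.pe_spec, P.pe_e]

/-- The projection to the orthogonal complement. -/
theorem perp_sub (v : V) : P.Perp (v - P.e (P.pe v) - P.f (P.pf v)) := by
  refine ⟨?_, ?_⟩
  · rw [map_sub, map_sub, P.pe_e, P.pe_f]; simp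
  · rw [map_sub, map_sub, P.pf_e, P.pf_f]; simp

theorem S_mem_O (c : Kˣ) : P.S c ∈ O Q := by
  intro v
  rw [S_apply, Q_add, Q_add, P.Qe, P.Qf, polar_add_left, polar_e_f]
  have h1 : polar Q v (P.e (((c : K) - 1) * P.pe v)) =
      Algebra.trace F K (((c : K) - 1) * P.pe v * P.pf v) := by
    rw [polar_comm, P.pf_spec]
  have h2 : polar Q v (P.f ((((c⁻¹ : Kˣ) : K) - 1) * P.pf v)) =
      Algebra.trace F K ((((c⁻¹ : Kˣ) : K) - 1) * P.pf v * P.pe v) := by
    rw [polar_comm, P.pe_spec]
  rw [h1, h2]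
  have h3 : (((c : K) - 1) * P.pe v * P.pf v) + ((((c⁻¹ : Kˣ) : K) - 1) * P.pf v * P.pe v) +
      (((c : K) - 1) * P.pe v * ((((c⁻¹ : Kˣ) : K) - 1) * P.pf v)) = 0 := by
    have hc : (c : K) * ((c⁻¹ : Kˣ) : K) = 1 := by rw [← Units.val_mul, mul_inv_cancel, Units.val_one]
    linear_combination (P.pe v * P.pf v) * hc
  have h4 := congrArg (Algebra.trace F K) h3
  rw [map_add, map_add, map_zero] at h4
  linear_combination h4

end SPair

/-! ### Squares of isometries are in `E Q` -/

theorem sq_mem_E [FiniteDimensional F V] {Q : QuadraticForm F V} (hG : Good Q) {g : V ≃ₗ[F] V}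
    (hg : g ∈ O Q) : g * g ∈ E Q := by
  have hcomm : ∀ a b : V ≃ₗ[F] V, a ∈ O Q → b ∈ O Q → a * b * a⁻¹ * b⁻¹ ∈ E Q := by
    intro a b ha hb
    rw [← hG.commutator_eq_E]
    have h := Subgroup.commutator_mem_commutator ha hb
    rwa [commutatorElement_def] at h
  have hg' := hg
  rw [O_eq_closure hG.nondeg] at hg'
  have key : g ∈ O Q ∧ g * g ∈ E Q := by
    refine Subgroup.closure_induction (p := fun g _ => g ∈ O Q ∧ g * g ∈ E Q) ?_ ?_ ?_ ?_ hg'
    · rintro x (⟨v, hv, rfl⟩ | ⟨u, w, hu, hw, rfl⟩)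
      · refine ⟨refl_mem_O hv, ?_⟩
        rw [refl_mul_self]
        exact (E Q).one_mem
      · exact ⟨siegel_mem_O hu hw, (E Q).mul_mem (siegel_mem_E hu hw) (siegel_mem_E hu hw)⟩
    · exact ⟨(O Q).one_mem, by rw [mul_one]; exact (E Q).one_mem⟩
    · rintro x y - - ⟨hx, hx'⟩ ⟨hy, hy'⟩
      refine ⟨(O Q).mul_mem hx hy, ?_⟩
      have e : x * y * (x * y) = x * x * (x⁻¹ * y * x⁻¹⁻¹ * y⁻¹) * (y * y) := by
        group
      rw [e]
      exact (E Q).mul_mem ((E Q).mul_mem hx' (hcomm _ _ ((O Q).inv_mem hx) hy)) hy'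
    · rintro x - ⟨hx, hx'⟩
      refine ⟨(O Q).inv_mem hx, ?_⟩
      rw [← mul_inv_rev]
      exact (E Q).inv_mem hx'
  exact key.2

end Cfsg.Agent.H137
end

-- part: H137/SiegelRel
section
/-!
# Relations between Siegel elements used for two-generation (helper137)
-/

set_option autoImplicit false

namespace Cfsg.Agent.H137

open QuadraticMap Cfsg.Agent.LieClassical.OrthCore Cfsg.Agent.LieClassical.OrthTrans
  Cfsg.Agent.LieClassical.OrthSimple Cfsg.Agent.ClassicalGeometry.OrthAutBasic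
  Cfsg.Agent.H887.SiegelMethod

variable {F V : Type*} [Field F] [AddCommGroup V] [Module F V] {Q : QuadraticForm F V}
  {H : Subgroup (V ≃ₗ[F] V)}

/-- commutator of two Siegel elements with orthogonal centres -/
theorem comm_T {x y a b : V} (hx : Q x = 0) (hy : Q y = 0) (hxy : polar Q x y = 0)
    (hxa : polar Q x a = 0) (hya : polar Q y a = 0) (hxb : polar Q x b = 0) (hyb : polar Q y b = 0)
    (h1 : T Q x a ∈ H) (h2 : T Q y b ∈ H) : T Q y ((polar Q a b) • x) ∈ H := by
  have h3 := H.mul_mem (H.mul_mem h1 h2) (H.inv_mem h1)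
  rw [T_conj (T_mem_O x a), T_apply_fix hx hxa hxy (by rw [polar_comm]; exact hya),
    T_apply_perp hx hxa hxb] at h3
  have hyx : polar Q y x = 0 := by rw [polar_comm]; exact hxy
  have h4 : polar Q y (b - polar Q a b • x) = 0 := by
    rw [polar_sub_right, hyb, polar_smul_right, hyx, smul_zero, sub_zero]
  have h5 := H.mul_mem h2 (H.inv_mem h3)
  rw [T_inv hy h4, T_mul hy hyb (by rw [polar_neg_right, h4, neg_zero])] at h5
  have e : b + -(b - polar Q a b • x) = polar Q a b • x := by abel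
  rwa [e] at h5

/-- the Siegel element of a sum of centres -/
theorem T_add_left {x y z : V} (hx : Q x = 0) (hy : Q y = 0) (hxy : polar Q x y = 0)
    (hxz : polar Q x z = 0) (hyz : polar Q y z = 0) :
    T Q (x + y) z = T Q y (Q z • x) * T Q x z * T Q y z := by
  have hyx : polar Q y x = 0 := by rw [polar_comm]; exact hxy
  have hzx : polar Q z x = 0 := by rw [polar_comm]; exact hxz
  have hzy : polar Q z y = 0 := by rw [polar_comm]; exact hyz
  have hs : Q (x + y) = 0 := by rw [Q_add, hx, hy, hxy]; simp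
  have hsz : polar Q (x + y) z = 0 := by rw [polar_add_left, hxz, hyz, add_zero]
  have hyzx : polar Q y (Q z • x) = 0 := by rw [polar_smul_right, hyx, smul_zero]
  have hzz : polar Q z z = 2 * Q z := by rw [polar_self]; simp [two_mul, two_smul]
  have hxx : polar Q x x = 0 := polar_self_of_sing hx
  have hyy : polar Q y y = 0 := polar_self_of_sing hy
  have hQx : Q (Q z • x) = 0 := by rw [QuadraticMap.map_smul, hx, smul_zero]
  ext v
  show T Q (x + y) z v = T Q y (Q z • x) (T Q x z (T Q y z v))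
  set w := T Q y z v with hw
  have hw' : w = v + polar Q y v • z - polar Q z v • y - (Q z * polar Q y v) • y := T_apply hy hyz v
  have hxw : polar Q x w = polar Q x v := by
    rw [hw', polar_sub_right, polar_sub_right, polar_add_right]
    simp only [polar_smul_right, hxy, hxz, smul_zero, sub_zero, add_zero]
  have hzw : polar Q z w = polar Q z v + polar Q y v * (2 * Q z) := by
    rw [hw', polar_sub_right, polar_sub_right, polar_add_right]
    simp only [polar_smul_right, hzy, hzz, smul_eq_mul, mul_zero, sub_zero]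
  have hyw : polar Q y w = polar Q y v := by
    rw [hw', polar_sub_right, polar_sub_right, polar_add_right]
    simp only [polar_smul_right, hyy, hyz, smul_zero, sub_zero, add_zero]
  set w2 := T Q x z w with hw2
  have hw2' : w2 = w + polar Q x w • z - polar Q z w • x - (Q z * polar Q x w) • x := T_apply hx hxz w
  have hyw2 : polar Q y w2 = polar Q y v := by
    rw [hw2', polar_sub_right, polar_sub_right, polar_add_right]
    simp only [polar_smul_right, hyx, hyz, smul_zero, sub_zero, add_zero, hyw]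
  have hxw2 : polar Q x w2 = polar Q x v := by
    rw [hw2', polar_sub_right, polar_sub_right, polar_add_right]
    simp only [polar_smul_right, hxx, hxz, smul_zero, sub_zero, add_zero, hxw]
  rw [T_apply hs hsz, T_apply hy hyzx, hyw2, polar_smul_left, hxw2, hQx, hw2', hxw, hzw, hw',
    polar_add_left]
  simp only [smul_eq_mul]
  module

/-- From one Siegel element `T y z` and the full root groups `T x (F y)`, `T x (F y')` with `y, y'` not orthogonal,
the full root group `T x (F z)`. -/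
theorem full_of_single {x y y' z : V} (hx : Q x = 0) (hy : Q y = 0) (hxz : polar Q x z = 0)
    (hyz : polar Q y z = 0) (hy'z : polar Q y' z = 0) (hyy' : polar Q y y' ≠ 0)
    (h1 : y ∈ Ts Q H x) (h2 : y' ∈ Ts Q H x) (h3 : T Q y z ∈ H) : z ∈ Ts Q H x := by
  have hxy : polar Q x y = 0 := h1.1
  have hxy' : polar Q x y' = 0 := h2.1
  have hyx : polar Q y x = 0 := by rw [polar_comm]; exact hxy
  refine ⟨hxz, fun s => ?_⟩
  have hy'y : polar Q y' y ≠ 0 := by rwa [polar_comm]
  set t : F := - s / polar Q y' y with ht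
  have hg := h2.2 t
  have hxt : polar Q x (t • y') = 0 := by rw [polar_smul_right, hxy', smul_zero]
  have h4 := H.mul_mem (H.mul_mem hg h3) (H.inv_mem hg)
  have e1 : T Q x (t • y') y = y + s • x := by
    rw [T_apply_perp hx hxt hxy, polar_smul_left, smul_eq_mul, ht, div_mul_cancel₀ _ hy'y, neg_smul,
      sub_neg_eq_add]
  have e2 : T Q x (t • y') z = z :=
    T_apply_fix hx hxt hxz (by rw [polar_smul_left, hy'z, smul_zero])
  rw [T_conj (T_mem_O _ _), e1, e2, add_comm] at h4
  have hsx : Q (s • x) = 0 := by rw [QuadraticMap.map_smul, hx, smul_zero]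
  rw [T_add_left hsx hy (by rw [polar_smul_left, hxy, smul_zero])
    (by rw [polar_smul_left, hxz, smul_zero]) hyz] at h4
  have h5 : T Q y (Q z • s • x) ∈ H := by
    have h6 := (mem_Ts_comm hx hy).1 h1
    rw [smul_smul]
    exact h6.2 _
  have h7 := H.mul_mem (H.mul_mem (H.inv_mem h5) h4) (H.inv_mem h3)
  rw [T_smul_left s hx hxz] at h7
  have e3 : (T Q y (Q z • s • x))⁻¹ * (T Q y (Q z • s • x) * T Q x (s • z) * T Q y z) * (T Q y z)⁻¹ =
      T Q x (s • z) := by group
  rwa [e3] at h7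

/-- The Singer element turns one Siegel element `T x (e c)` into the full group `T x (e K)`. -/
theorem full_e {K : Type*} [Field K] [Finite K] [Algebra F K] (P : SPair Q K) {x : V} (hx : Q x = 0)
    (hxP : P.Perp x) {g : Kˣ} (hg : ∀ c : Kˣ, c ∈ Subgroup.zpowers g) (hS : P.S (g * g) ∈ H)
    {c : K} (hc : c ≠ 0) (h : T Q x (P.e c) ∈ H) (d : K) : P.e d ∈ Ts Q H x := by
  have hperp : ∀ z : K, polar Q x (P.e z) = 0 := fun z => P.polar_e' hxP z
  let Y : AddSubgroup K :=
    { carrier := {z | T Q x (P.e z) ∈ H}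
      zero_mem' := by
        show T Q x (P.e 0) ∈ H
        rw [map_zero, T_zero_right]
        exact H.one_mem
      add_mem' := by
        intro a b ha hb
        show T Q x (P.e (a + b)) ∈ H
        rw [map_add, ← T_mul hx (hperp a) (hperp b)]
        exact H.mul_mem ha hb
      neg_mem' := by
        intro a ha
        show T Q x (P.e (-a)) ∈ H
        rw [map_neg, ← T_inv hx (hperp a)]
        exact H.inv_mem ha }
  have hY : ∀ c : K, c ≠ 0 → ∀ y ∈ Y, c ^ 2 * y ∈ Y := by
    intro c hc y hy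
    obtain ⟨n, hn⟩ := Subgroup.mem_zpowers_iff.1 (hg (Units.mk0 c hc))
    have h1 : P.S (Units.mk0 c hc * Units.mk0 c hc) ∈ H := by
      have : Units.mk0 c hc * Units.mk0 c hc = (g * g) ^ n := by
        rw [← hn, mul_zpow]
      rw [this, P.S_zpow]
      exact H.zpow_mem hS n
    have h2 := H.mul_mem (H.mul_mem h1 hy) (H.inv_mem h1)
    rw [T_conj (P.S_mem_O _), P.S_perp _ hxP, P.S_e] at h2
    show T Q x (P.e (c ^ 2 * y)) ∈ H
    rw [pow_two]
    exact h2
  refine ⟨hperp d, fun s => ?_⟩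
  have h3 := mem_of_sq_mul Y hY h hc (s • d)
  have h4 : T Q x (P.e (s • d)) ∈ H := h3
  rwa [map_smul] at h4

/-- The same on the other side. -/
theorem full_f {K : Type*} [Field K] [Finite K] [Algebra F K] (P : SPair Q K) {x : V} (hx : Q x = 0)
    (hxP : P.Perp x) {g : Kˣ} (hg : ∀ c : Kˣ, c ∈ Subgroup.zpowers g) (hS : P.S (g * g) ∈ H)
    {c : K} (hc : c ≠ 0) (h : T Q x (P.f c) ∈ H) (d : K) : P.f d ∈ Ts Q H x := by
  have hperp : ∀ z : K, polar Q x (P.f z) = 0 := fun z => P.polar_f' hxP z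
  let Y : AddSubgroup K :=
    { carrier := {z | T Q x (P.f z) ∈ H}
      zero_mem' := by
        show T Q x (P.f 0) ∈ H
        rw [map_zero, T_zero_right]
        exact H.one_mem
      add_mem' := by
        intro a b ha hb
        show T Q x (P.f (a + b)) ∈ H
        rw [map_add, ← T_mul hx (hperp a) (hperp b)]
        exact H.mul_mem ha hb
      neg_mem' := by
        intro a ha
        show T Q x (P.f (-a)) ∈ H
        rw [map_neg, ← T_inv hx (hperp a)]
        exact H.inv_mem ha }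
  have hY : ∀ c : K, c ≠ 0 → ∀ y ∈ Y, c ^ 2 * y ∈ Y := by
    intro c hc y hy
    obtain ⟨n, hn⟩ := Subgroup.mem_zpowers_iff.1 (hg (Units.mk0 c hc)⁻¹)
    have h1 : P.S ((Units.mk0 c hc)⁻¹ * (Units.mk0 c hc)⁻¹) ∈ H := by
      have : (Units.mk0 c hc)⁻¹ * (Units.mk0 c hc)⁻¹ = (g * g) ^ n := by
        rw [← hn, mul_zpow]
      rw [this, P.S_zpow]
      exact H.zpow_mem hS n
    have h2 := H.mul_mem (H.mul_mem h1 hy) (H.inv_mem h1)
    rw [T_conj (P.S_mem_O _), P.S_perp _ hxP, P.S_f, ← mul_inv, inv_inv] at h2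
    show T Q x (P.f (c ^ 2 * y)) ∈ H
    rw [pow_two]
    exact h2
  refine ⟨hperp d, fun s => ?_⟩
  have h3 := mem_of_sq_mul Y hY h hc (s • d)
  have h4 : T Q x (P.f (s • d)) ∈ H := h3
  rwa [map_smul] at h4

end Cfsg.Agent.H137
end

-- part: H137/OrthWeyl
section
/-!
# Weyl elements in `E Q` (helper137)
-/

set_option autoImplicit false

namespace Cfsg.Agent.H137

open QuadraticMap Cfsg.Agent.LieClassical.OrthCore Cfsg.Agent.LieClassical.OrthTrans
  Cfsg.Agent.LieClassical.OrthSimple Cfsg.Agent.ClassicalGeometry.OrthAutBasic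
  Cfsg.Agent.H887.SiegelMethod

variable {F V : Type*} [Field F] [AddCommGroup V] [Module F V] {Q : QuadraticForm F V}

/-- Two orthogonal hyperbolic pairs. -/
structure Hyp2 (Q : QuadraticForm F V) (x x' y y' : V) : Prop where
  hx : Hyp Q x x'
  hy : Hyp Q y y'
  xy : polar Q x y = 0
  xy' : polar Q x y' = 0
  x'y : polar Q x' y = 0
  x'y' : polar Q x' y' = 0

/-- The element `x ↦ y ↦ -x`, `x' ↦ y' ↦ -x'`. -/
noncomputable def nn (Q : QuadraticForm F V) (x x' y y' : V) : V ≃ₗ[F] V :=
  T Q x' y * T Q x y' * T Q x' y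

theorem nn_mem_E (x x' y y' : V) : nn Q x x' y y' ∈ E Q :=
  E_mul (E_mul (T_mem_E _ _) (T_mem_E _ _)) (T_mem_E _ _)

theorem nn_apply (x x' y y' v : V) : nn Q x x' y y' v = T Q x' y (T Q x y' (T Q x' y v)) := rfl

theorem Hyp2.swap {x x' y y' : V} (h : Hyp2 Q x x' y y') :
    polar Q y x = 0 ∧ polar Q y' x = 0 ∧ polar Q y x' = 0 ∧ polar Q y' x' = 0 :=
  ⟨by rw [polar_comm]; exact h.xy, by rw [polar_comm]; exact h.xy', by rw [polar_comm]; exact h.x'y,
    by rw [polar_comm]; exact h.x'y'⟩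

theorem nn_x {x x' y y' : V} (h : Hyp2 Q x x' y y') : nn Q x x' y y' x = y := by
  obtain ⟨h1, h2, h3, h4⟩ := h.swap
  have e1 : T Q x' y x = x + y := by
    rw [T_apply h.hx.right h.x'y, h.hx.pair', h1, h.hy.left]; simp
  have e2 : T Q x y' (x + y) = y := by
    rw [T_apply h.hx.left h.xy', polar_add_right, h.hx.polar_left, h.xy, polar_add_right, h2, h.hy.pair',
      h.hy.right]
    simp
  have e3 : T Q x' y y = y := by
    rw [T_apply h.hx.right h.x'y, h.x'y, h.hy.polar_left, h.hy.left]; simp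
  rw [nn_apply, e1, e2, e3]

theorem nn_y {x x' y y' : V} (h : Hyp2 Q x x' y y') : nn Q x x' y y' y = -x := by
  obtain ⟨h1, h2, h3, h4⟩ := h.swap
  have e1 : T Q x' y x = x + y := by
    rw [T_apply h.hx.right h.x'y, h.hx.pair', h1, h.hy.left]; simp
  have e2 : T Q x y' y = y - x := by
    rw [T_apply h.hx.left h.xy', h.xy, h.hy.pair', h.hy.right]
    simp
  have e3 : T Q x' y y = y := by
    rw [T_apply h.hx.right h.x'y, h.x'y, h.hy.polar_left, h.hy.left]; simp
  rw [nn_apply, e3, e2, map_sub, e3, e1]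
  abel

theorem nn_x' {x x' y y' : V} (h : Hyp2 Q x x' y y') : nn Q x x' y y' x' = y' := by
  obtain ⟨h1, h2, h3, h4⟩ := h.swap
  have e1 : T Q x' y x' = x' := T_apply_self h.hx.right h.x'y
  have e2 : T Q x y' x' = x' + y' := by
    rw [T_apply h.hx.left h.xy', h.hx.pair, h4, h.hy.right]
    simp
  have e3 : T Q x' y y' = y' - x' := by
    rw [T_apply h.hx.right h.x'y, h.x'y', h.hy.pair, h.hy.left]; simp
  rw [nn_apply, e1, e2, map_add, e1, e3]
  abel

theorem nn_y' {x x' y y' : V} (h : Hyp2 Q x x' y y') : nn Q x x' y y' y' = -x' := by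
  obtain ⟨h1, h2, h3, h4⟩ := h.swap
  have e1 : T Q x' y x' = x' := T_apply_self h.hx.right h.x'y
  have e2 : T Q x y' x' = x' + y' := by
    rw [T_apply h.hx.left h.xy', h.hx.pair, h4, h.hy.right]
    simp
  have e3 : T Q x' y y' = y' - x' := by
    rw [T_apply h.hx.right h.x'y, h.x'y', h.hy.pair, h.hy.left]; simp
  have e4 : T Q x y' y' = y' := by
    rw [T_apply h.hx.left h.xy', h.xy', h.hy.polar_right, h.hy.right]; simp
  rw [nn_apply, e3, map_sub, e4, e2, map_sub, map_add, e3, e1]
  abel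

theorem nn_fix {x x' y y' v : V} (h : Hyp2 Q x x' y y') (h1 : polar Q x v = 0) (h2 : polar Q x' v = 0)
    (h3 : polar Q y v = 0) (h4 : polar Q y' v = 0) : nn Q x x' y y' v = v := by
  have e1 : T Q x' y v = v := T_apply_fix h.hx.right h.x'y h2 h3
  have e2 : T Q x y' v = v := T_apply_fix h.hx.left h.xy' h1 h4
  rw [nn_apply, e1, e2, e1]

/-- The product of the reflections in `x + c x'` and `d`, `Q d = c`. -/
theorem exists_rr (hG : Good Q) {x x' d : V} (hx : Hyp Q x x') (hxd : polar Q x d = 0)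
    (hx'd : polar Q x' d = 0) {c : F} (hc : c ≠ 0) (hd : Q d = c) :
    ∃ r ∈ E Q, r x = -(c • x') ∧ r x' = -(c⁻¹ • x) ∧
      (∀ v, polar Q x v = 0 → polar Q x' v = 0 → r v = v - (c⁻¹ * polar Q d v) • d) := by
  have hv : Q (x + c • x') = c := by
    rw [Q_add, hx.left, QuadraticMap.map_smul, hx.right, polar_smul_right, hx.pair]; simp
  have hv0 : Q (x + c • x') ≠ 0 := by rw [hv]; exact hc
  have hd0 : Q d ≠ 0 := by rw [hd]; exact hc
  have hdx : polar Q d x = 0 := by rw [polar_comm]; exact hxd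
  have hdx' : polar Q d x' = 0 := by rw [polar_comm]; exact hx'd
  refine ⟨refl Q (x + c • x') hv0 * refl Q d hd0, hG.refl_mul_refl_mem hd0 hv0 (by rw [hv, hd]), ?_, ?_, ?_⟩
  · show refl Q (x + c • x') hv0 (refl Q d hd0 x) = _
    rw [refl_apply hd0, hdx, mul_zero, zero_smul, sub_zero, refl_apply, hv, polar_add_left, polar_smul_left,
      hx.polar_left, hx.pair', smul_eq_mul, mul_one, zero_add, inv_mul_cancel₀ hc, one_smul]
    abel
  · show refl Q (x + c • x') hv0 (refl Q d hd0 x') = _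
    rw [refl_apply hd0, hdx', mul_zero, zero_smul, sub_zero, refl_apply, hv, polar_add_left, polar_smul_left,
      hx.polar_right, hx.pair, smul_eq_mul, mul_zero, add_zero, mul_one, smul_add, smul_smul,
      inv_mul_cancel₀ hc, one_smul]
    abel
  · intro v h1 h2
    show refl Q (x + c • x') hv0 (refl Q d hd0 v) = _
    rw [refl_apply hd0, hd]
    rw [refl_apply, hv]
    have : polar Q (x + c • x') (v - (c⁻¹ * polar Q d v) • d) = 0 := by
      rw [polar_sub_right, polar_smul_right, polar_add_left, polar_add_left, polar_smul_left, polar_smul_left,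
        h1, h2, hxd, hx'd]
      simp
    rw [this]; simp

end Cfsg.Agent.H137
end
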