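import Mathlib
import Cfsg.Agent.H137.OrthWeyl
import Cfsg.Agent.H136.TwoGen
import Cfsg.Agent.LieClassical.OrthFinite
import Cfsg.Agent.LieClassical.OrthForms
set_option linter.all false

-- part: H137/OrthMain
section
/-!
# `E Q` is generated by two elements (helper137)
-/

set_option autoImplicit false

namespace Cfsg.Agent.H137

open QuadraticMap Cfsg.Agent.LieClassical.OrthCore Cfsg.Agent.LieClassical.OrthTrans
  Cfsg.Agent.LieClassical.OrthSimple Cfsg.Agent.ClassicalGeometry.OrthAutBasic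
  Cfsg.Agent.H887.SiegelMethod

/-- Commuting elements of coprime orders are powers of their product. -/
theorem mem_of_mul_coprime {G : Type*} [Group G] {H : Subgroup G} {a b : G} (h : Commute a b) {m n : ℕ}
    (hmn : Nat.Coprime m n) (ha : a ^ m = 1) (hb : b ^ n = 1) (hab : a * b ∈ H) : a ∈ H ∧ b ∈ H := by
  have key : b ∈ H := by
    obtain ⟨u, v, huv⟩ := Nat.isCoprime_iff_coprime.2 hmn
    have h1 : (a * b) ^ m ∈ H := H.pow_mem hab m
    rw [h.mul_pow, ha, one_mul] at h1
    have h2 : b = (b ^ m) ^ u := by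
      calc b = b ^ (u * (m : ℤ) + v * (n : ℤ)) := by rw [huv, zpow_one]
        _ = (b ^ m) ^ u * (b ^ n) ^ v := by
            rw [zpow_add, mul_comm u, mul_comm v, zpow_mul, zpow_mul, zpow_natCast, zpow_natCast]
        _ = (b ^ m) ^ u := by rw [hb, one_zpow, mul_one]
    rw [h2]
    exact H.zpow_mem h1 u
  refine ⟨?_, key⟩
  have := H.mul_mem hab (H.inv_mem key)
  rwa [mul_inv_cancel_right] at this

variable {F V : Type*} [Field F] [AddCommGroup V] [Module F V] {Q : QuadraticForm F V}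

/-- Transport of `y ∈ Ts u` by an element `w` of `H`. -/
theorem shift {H : Subgroup (V ≃ₗ[F] V)} {w : V ≃ₗ[F] V} (hw : w ∈ H) (hwO : w ∈ O Q) {u y u' y' : V} {a b : F}
    (h : y ∈ Ts Q H u) (ha : a ≠ 0) (hb : b ≠ 0) (hu : w u = a • u') (hy : w y = b • y') (hu' : Q u' = 0) :
    y' ∈ Ts Q H u' := by
  have h1 := map_mem_Ts hw hwO h
  rw [hu, hy, Ts_smul ha hu'] at h1
  have h2 := (Ts Q H u').smul_mem b⁻¹ h1
  rwa [smul_smul, inv_mul_cancel₀ hb, one_smul] at h2

/-- Transport of one Siegel element. -/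
theorem shiftT {H : Subgroup (V ≃ₗ[F] V)} {w : V ≃ₗ[F] V} (hw : w ∈ H) (hwO : w ∈ O Q) {u z u' z' : V} {a b : F}
    (h : T Q u (b • z) ∈ H) (hu : w u = a • u') (hz : w z = z') (hu' : Q u' = 0) (huz : polar Q u' z' = 0) :
    T Q u' ((a * b) • z') ∈ H := by
  have h1 := H.mul_mem (H.mul_mem hw h) (H.inv_mem hw)
  rw [T_conj hwO, hu, map_smul, hz, T_smul_left a hu' (by rw [polar_smul_right, huz, smul_zero]),
    smul_smul] at h1
  exact h1

/-- The group generated by the Singer element, one Siegel element and a Weyl element contains `E Q`. -/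
theorem E_le_of_three [FiniteDimensional F V] (hG : Good Q) {H : Subgroup (V ≃ₗ[F] V)} (hHO : H ≤ O Q)
    {K : Type*} [Field K] [Finite K] [Algebra F K] (P : SPair Q K)
    {e0 f0 : V} (h0 : Hyp Q e0 f0) (he0 : P.Perp e0) (hf0 : P.Perp f0)
    {x1 x2 y1 y2 : K} (h11 : Algebra.trace F K (x1 * y1) = 1) (h12 : Algebra.trace F K (x1 * y2) = 0)
    (h21 : Algebra.trace F K (x2 * y1) = 0) (h22 : Algebra.trace F K (x2 * y2) = 1)
    {d d' : V} (hd : P.Perp d) (hd' : P.Perp d') (hed : polar Q e0 d = 0) (hfd : polar Q f0 d = 0)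
    (hed' : polar Q e0 d' = 0) (hfd' : polar Q f0 d' = 0)
    (hcond : polar Q d' d ≠ 0 ∨ polar Q d d ≠ 0)
    (hspan : ∀ v, P.Perp v → polar Q e0 v = 0 → polar Q f0 v = 0 → v ∈ Submodule.span F {d, d'})
    {g : Kˣ} (hg : ∀ c : Kˣ, c ∈ Subgroup.zpowers g) (hS : P.S (g * g) ∈ H) (hτ : T Q e0 d ∈ H)
    {r : V ≃ₗ[F] V} {c : F} (hc : c ≠ 0) (hre : r e0 = -(c • f0)) (hrf : r f0 = -(c⁻¹ • e0))
    (hre1 : r (P.e x1) = P.e x1) (hre2 : r (P.e x2) = P.e x2) (hrf1 : r (P.f y1) = P.f y1)
    (hrf2 : r (P.f y2) = P.f y2) (hrd : r d = d') (hrd' : r d' = d)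
    (hw : nn Q (P.e x1) (P.f y1) (P.e x2) (P.f y2) * nn Q e0 f0 (P.e x1) (P.f y1) * r ∈ H) :
    E Q ≤ H := by
  set e1 := P.e x1 with he1
  set e2 := P.e x2 with he2
  set f1 := P.f y1 with hf1
  set f2 := P.f y2 with hf2
  set w := nn Q e1 f1 e2 f2 * nn Q e0 f0 e1 f1 * r with hwdef
  have hwO : w ∈ O Q := hHO hw
  -- the polar form
  have p11 : polar Q e1 f1 = 1 := by rw [he1, hf1, P.polar_e_f, h11]
  have p12 : polar Q e1 f2 = 0 := by rw [he1, hf2, P.polar_e_f, h12]
  have p21 : polar Q e2 f1 = 0 := by rw [he2, hf1, P.polar_e_f, h21]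
  have p22 : polar Q e2 f2 = 1 := by rw [he2, hf2, P.polar_e_f, h22]
  have q1 : Q e1 = 0 := P.Qe _
  have q2 : Q e2 = 0 := P.Qe _
  have q3 : Q f1 = 0 := P.Qf _
  have q4 : Q f2 = 0 := P.Qf _
  have q5 : Q e0 = 0 := h0.left
  have q6 : Q f0 = 0 := h0.right
  have H12 : Hyp2 Q e1 f1 e2 f2 := by
    refine ⟨⟨q1, q3, p11⟩, ⟨q2, q4, p22⟩, P.polar_e_e _ _, p12, ?_, P.polar_f_f _ _⟩
    rw [polar_comm]; exact p21
  have H01 : Hyp2 Q e0 f0 e1 f1 :=
    ⟨h0, ⟨q1, q3, p11⟩, P.polar_e' he0 _, P.polar_f' he0 _, P.polar_e' hf0 _, P.polar_f' hf0 _⟩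
  have wapp : ∀ v, w v = nn Q e1 f1 e2 f2 (nn Q e0 f0 e1 f1 (r v)) := fun v => rfl
  -- the action of `w`
  have we0 : w e0 = (-c) • f2 := by
    rw [wapp, hre, map_neg, map_smul, nn_x' H01, map_neg, map_smul, nn_x' H12, neg_smul]
  have wf0 : w f0 = (-c⁻¹) • e2 := by
    rw [wapp, hrf, map_neg, map_smul, nn_x H01, map_neg, map_smul, nn_x H12, neg_smul]
  have we1 : w e1 = (-1 : F) • e0 := by
    rw [wapp, hre1, nn_y H01, map_neg, nn_fix H12 (P.polar_e he0 _) (P.polar_f he0 _) (P.polar_e he0 _)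
      (P.polar_f he0 _), neg_smul, one_smul]
  have wf1 : w f1 = (-1 : F) • f0 := by
    rw [wapp, hrf1, nn_y' H01, map_neg, nn_fix H12 (P.polar_e hf0 _) (P.polar_f hf0 _) (P.polar_e hf0 _)
      (P.polar_f hf0 _), neg_smul, one_smul]
  have we2 : w e2 = (-1 : F) • e1 := by
    rw [wapp, hre2, nn_fix H01 (P.polar_e' he0 _) (P.polar_e' hf0 _) (P.polar_e_e _ _) H12.x'y, nn_y H12,
      neg_smul, one_smul]
  have wf2 : w f2 = (-1 : F) • f1 := by
    rw [wapp, hrf2, nn_fix H01 (P.polar_f' he0 _) (P.polar_f' hf0 _) p12 (P.polar_f_f _ _), nn_y' H12,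
      neg_smul, one_smul]
  have wd : w d = d' := by
    rw [wapp, hrd, nn_fix H01 hed' hfd' (P.polar_e hd' _) (P.polar_f hd' _),
      nn_fix H12 (P.polar_e hd' _) (P.polar_f hd' _) (P.polar_e hd' _) (P.polar_f hd' _)]
  have wd' : w d' = d := by
    rw [wapp, hrd', nn_fix H01 hed hfd (P.polar_e hd _) (P.polar_f hd _),
      nn_fix H12 (P.polar_e hd _) (P.polar_f hd _) (P.polar_e hd _) (P.polar_f hd _)]
  have hc' : -c ≠ 0 := neg_ne_zero.2 hc
  have hci : -c⁻¹ ≠ 0 := neg_ne_zero.2 (inv_ne_zero hc)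
  have h1n : (-1 : F) ≠ 0 := neg_ne_zero.2 one_ne_zero
  -- the Siegel elements
  have t0 : T Q e0 ((1 : F) • d) ∈ H := by rwa [one_smul]
  have t1 : T Q f2 ((-c * 1) • d') ∈ H := shiftT hw hwO t0 we0 wd q4 (P.polar_f hd' _)
  have t2 : T Q f1 ((-1 * (-c * 1)) • d) ∈ H := shiftT hw hwO t1 wf2 wd' q3 (P.polar_f hd _)
  have t3 : T Q f0 ((-1 * (-1 * (-c * 1))) • d') ∈ H := shiftT hw hwO t2 wf1 wd q6 hfd'
  have t4 : T Q e2 ((-c⁻¹ * (-1 * (-1 * (-c * 1)))) • d) ∈ H :=
    shiftT hw hwO t3 wf0 wd' q2 (P.polar_e hd _)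
  have t4' : T Q e2 ((1 : F) • d) ∈ H := by
    have e : -c⁻¹ * (-1 * (-1 * (-c * 1))) = 1 := by field_simp
    rwa [e] at t4
  have t5 : T Q e1 ((-1 * 1 : F) • d') ∈ H := shiftT hw hwO t4' we2 wd q1 (P.polar_e hd' _)
  rw [one_smul] at t4'
  -- `T e0 (e K)`
  have x10 : x1 ≠ 0 := by
    intro h
    rw [h, zero_mul, map_zero] at h11
    exact zero_ne_one h11
  have x20 : x2 ≠ 0 := by
    intro h
    rw [h, zero_mul, map_zero] at h22
    exact zero_ne_one h22
  have y10 : y1 ≠ 0 := by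
    intro h
    rw [h, mul_zero, map_zero] at h11
    exact zero_ne_one h11
  have hU : ∀ z : K, P.e z ∈ Ts Q H e0 := by
    rcases hcond with h | h
    · have h1 := comm_T (Q := Q) (H := H) q1 q5 (P.polar_e he0 _)
        (by rw [polar_smul_right, P.polar_e hd', smul_zero]) (by rw [polar_smul_right, hed', smul_zero])
        (P.polar_e hd _) hed t5 hτ
      rw [he1, ← map_smul] at h1
      have h2 : polar Q ((-1 * 1 : F) • d') d • x1 ≠ 0 := by
        rw [polar_smul_left]
        refine smul_ne_zero ?_ x10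
        rw [smul_eq_mul]
        exact mul_ne_zero (by simp) h
      intro z
      exact full_e P q5 he0 hg hS h2 h1 z
    · have h1 := comm_T (Q := Q) (H := H) q2 q5 (P.polar_e he0 _) (P.polar_e hd _) hed
        (P.polar_e hd _) hed t4' hτ
      rw [he2, ← map_smul] at h1
      have h2 : polar Q d d • x2 ≠ 0 := smul_ne_zero h x20
      intro z
      exact full_e P q5 he0 hg hS h2 h1 z
  -- the relations
  have r1 : e0 ∈ Ts Q H f2 := shift hw hwO (hU x1) hc' h1n we0 we1 q4
  have r2 : f2 ∈ Ts Q H f1 := shift hw hwO r1 h1n hc' wf2 we0 q3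
  have r3 : f1 ∈ Ts Q H f0 := shift hw hwO r2 h1n h1n wf1 wf2 q6
  have s1 : e1 ∈ Ts Q H f2 := shift hw hwO (hU x2) hc' h1n we0 we2 q4
  have s2 : e0 ∈ Ts Q H f1 := shift hw hwO s1 h1n h1n wf2 we1 q3
  have s3 : f2 ∈ Ts Q H f0 := shift hw hwO s2 h1n hc' wf1 we0 q6
  have s4 : f1 ∈ Ts Q H e2 := shift hw hwO s3 hci h1n wf0 wf2 q2
  have s5 : f0 ∈ Ts Q H e1 := shift hw hwO s4 h1n h1n we2 wf1 q1
  have hU' : ∀ z : K, P.f z ∈ Ts Q H e0 := fun z =>
    full_f P q5 he0 hg hS y10 (Ts_mem ((mem_Ts_comm q3 q5).1 s2)) z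
  have hV' : ∀ z : K, P.f z ∈ Ts Q H f0 := fun z => full_f P q6 hf0 hg hS y10 (Ts_mem r3) z
  have hV : ∀ z : K, P.e z ∈ Ts Q H f0 := fun z =>
    full_e P q6 hf0 hg hS x10 (Ts_mem ((mem_Ts_comm q1 q6).1 s5)) z
  -- the anisotropic part
  have p11' : polar Q f1 e1 = 1 := by rw [polar_comm]; exact p11
  have hde : d ∈ Ts Q H e0 := by
    have h1 := full_of_single (y := f1) (y' := e1) q5 q3
      (by rw [polar_smul_right, hed, smul_zero]) (by rw [polar_smul_right, P.polar_f hd, smul_zero])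
      (by rw [polar_smul_right, P.polar_e hd, smul_zero]) (by rw [p11']; exact one_ne_zero) (hU' y1) (hU x1) t2
    have h2 := (Ts Q H e0).smul_mem (c⁻¹) h1
    have e : c⁻¹ * (-1 * (-c * 1)) = 1 := by field_simp
    rwa [smul_smul, e, one_smul] at h2
  have hd'e : d' ∈ Ts Q H e0 := by
    have h1 := full_of_single (y := e1) (y' := f1) q5 q1
      (by rw [polar_smul_right, hed', smul_zero]) (by rw [polar_smul_right, P.polar_e hd', smul_zero])
      (by rw [polar_smul_right, P.polar_f hd', smul_zero]) (by rw [p11]; exact one_ne_zero) (hU x1) (hU' y1) t5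
    have h2 := (Ts Q H e0).smul_mem (-1 : F) h1
    rwa [smul_smul, mul_one, neg_one_mul, neg_neg, one_smul] at h2
  have wd1 : w d = (1 : F) • d' := by rw [one_smul]; exact wd
  have wd1' : w d' = (1 : F) • d := by rw [one_smul]; exact wd'
  have one0 : (1 : F) ≠ 0 := one_ne_zero
  have hd'f : d' ∈ Ts Q H f0 :=
    shift hw hwO (shift hw hwO (shift hw hwO hde hc' one0 we0 wd1 q4) h1n one0 wf2 wd1' q3) h1n one0 wf1 wd1 q6
  have hdf : d ∈ Ts Q H f0 :=
    shift hw hwO (shift hw hwO (shift hw hwO hd'e hc' one0 we0 wd1' q4) h1n one0 wf2 wd1 q3) h1n one0 wf1 wd1' q6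
  -- conclusion
  refine E_le_of_Ts hG q5 q6 (by rw [h0.pair]; exact one_ne_zero) ?_ ?_
  · intro v hv
    have hv1 : P.Perp (v - P.e (P.pe v) - P.f (P.pf v)) := P.perp_sub v
    have hv2 : polar Q e0 (v - P.e (P.pe v) - P.f (P.pf v)) = 0 := by
      rw [polar_sub_right, polar_sub_right, P.polar_e' he0, P.polar_f' he0, hv, sub_zero, sub_zero]
    set v1 := v - P.e (P.pe v) - P.f (P.pf v) with hv1def
    have hv3 : v1 - polar Q f0 v1 • e0 ∈ Submodule.span F {d, d'} := by
      apply hspan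
      · exact ⟨by rw [map_sub, map_smul, hv1.1, he0.1, smul_zero, sub_zero],
          by rw [map_sub, map_smul, hv1.2, he0.2, smul_zero, sub_zero]⟩
      · rw [polar_sub_right, hv2, polar_smul_right, h0.polar_left, smul_zero, sub_zero]
      · rw [polar_sub_right, polar_smul_right, h0.pair', smul_eq_mul, mul_one, sub_self]
    have hv4 : v1 - polar Q f0 v1 • e0 ∈ Ts Q H e0 := by
      refine (Submodule.span_le.2 ?_) hv3
      rintro x (rfl | rfl)
      · exact hde
      · exact hd'e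
    have hv5 : v = (v1 - polar Q f0 v1 • e0) + polar Q f0 v1 • e0 + P.e (P.pe v) + P.f (P.pf v) := by
      rw [hv1def]; abel
    rw [hv5]
    exact (Ts Q H e0).add_mem ((Ts Q H e0).add_mem ((Ts Q H e0).add_mem hv4
      ((Ts Q H e0).smul_mem _ (self_mem_Ts q5))) (hU _)) (hU' _)
  · intro v hv
    have hv1 : P.Perp (v - P.e (P.pe v) - P.f (P.pf v)) := P.perp_sub v
    have hv2 : polar Q f0 (v - P.e (P.pe v) - P.f (P.pf v)) = 0 := by
      rw [polar_sub_right, polar_sub_right, P.polar_e' hf0, P.polar_f' hf0, hv, sub_zero, sub_zero]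
    set v1 := v - P.e (P.pe v) - P.f (P.pf v) with hv1def
    have hv3 : v1 - polar Q e0 v1 • f0 ∈ Submodule.span F {d, d'} := by
      apply hspan
      · exact ⟨by rw [map_sub, map_smul, hv1.1, hf0.1, smul_zero, sub_zero],
          by rw [map_sub, map_smul, hv1.2, hf0.2, smul_zero, sub_zero]⟩
      · rw [polar_sub_right, polar_smul_right, h0.pair, smul_eq_mul, mul_one, sub_self]
      · rw [polar_sub_right, hv2, polar_smul_right, h0.polar_right, smul_zero, sub_zero]
    have hv4 : v1 - polar Q e0 v1 • f0 ∈ Ts Q H f0 := by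
      refine (Submodule.span_le.2 ?_) hv3
      rintro x (rfl | rfl)
      · exact hdf
      · exact hd'f
    have hv5 : v = (v1 - polar Q e0 v1 • f0) + polar Q e0 v1 • f0 + P.e (P.pe v) + P.f (P.pf v) := by
      rw [hv1def]; abel
    rw [hv5]
    exact (Ts Q H f0).add_mem ((Ts Q H f0).add_mem ((Ts Q H f0).add_mem hv4
      ((Ts Q H f0).smul_mem _ (self_mem_Ts q6))) (hV _)) (hV' _)

end Cfsg.Agent.H137
end

-- part: H137/OrthTwo
section
/-!
# `E Q` is generated by two elements (helper137)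
-/

set_option autoImplicit false

namespace Cfsg.Agent.H137

open QuadraticMap Cfsg.Agent.LieClassical.OrthCore Cfsg.Agent.LieClassical.OrthTrans
  Cfsg.Agent.LieClassical.OrthSimple Cfsg.Agent.ClassicalGeometry.OrthAutBasic
  Cfsg.Agent.H887.SiegelMethod

variable {F V : Type*} [Field F] [AddCommGroup V] [Module F V] {Q : QuadraticForm F V}

/-- the characteristic is prime to the order of the multiplicative group of an extension -/
theorem coprime_card_units (F : Type*) [Field F] (K : Type*) [Field K] [Finite K] [Algebra F K] :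
    Nat.Coprime (Nat.card Kˣ) (ringChar F) := by
  have : Fintype K := Fintype.ofFinite K
  have h1 : ringChar F = ringChar K := Algebra.ringChar_eq F K
  rw [h1]
  have hp : (ringChar K).Prime := CharP.char_is_prime K _
  have h2 : ringChar K ∣ Fintype.card K := by
    have h3 : ((Fintype.card K : ℕ) : K) = 0 := FiniteField.cast_card_eq_zero K
    exact (ringChar.spec K _).1 h3
  rw [Nat.card_units, Nat.card_eq_fintype_card]
  rw [Nat.coprime_comm, hp.coprime_iff_not_dvd]
  intro h4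
  have h5 : 1 ≤ Fintype.card K := Fintype.card_pos
  have h6 : ringChar K ∣ Fintype.card K - (Fintype.card K - 1) := Nat.dvd_sub h2 h4
  rw [Nat.sub_sub_self h5] at h6
  exact hp.one_lt.ne' (Nat.dvd_one.1 h6)

/-- **Two-generation of `E Q`**: the abstract form. -/
theorem two_gen_E [FiniteDimensional F V] (hG : Good Q)
    {K : Type*} [Field K] [Finite K] [Algebra F K] (P : SPair Q K)
    {e0 f0 : V} (h0 : Hyp Q e0 f0) (he0 : P.Perp e0) (hf0 : P.Perp f0)
    {x1 x2 y1 y2 : K} (h11 : Algebra.trace F K (x1 * y1) = 1) (h12 : Algebra.trace F K (x1 * y2) = 0)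
    (h21 : Algebra.trace F K (x2 * y1) = 0) (h22 : Algebra.trace F K (x2 * y2) = 1)
    {d0 d : V} (hd0 : P.Perp d0) (hd : P.Perp d) (hed0 : polar Q e0 d0 = 0) (hfd0 : polar Q f0 d0 = 0)
    (hed : polar Q e0 d = 0) (hfd : polar Q f0 d = 0) (hQ0 : Q d0 ≠ 0) (hdd : polar Q d0 d ≠ 0)
    (hspan : ∀ v, P.Perp v → polar Q e0 v = 0 → polar Q f0 v = 0 → v ∈ Submodule.span F {d0, d}) :
    ∃ a b : V ≃ₗ[F] V, a ∈ E Q ∧ b ∈ E Q ∧ E Q ≤ Subgroup.closure {a, b} := by
  obtain ⟨g, hg⟩ := IsCyclic.exists_generator (α := Kˣ)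
  set d' : V := d - ((Q d0)⁻¹ * polar Q d0 d) • d0 with hd'
  obtain ⟨r, hrE, hre, hrf, hr⟩ := exists_rr hG h0 hed0 hfd0 hQ0 rfl
  set w := nn Q (P.e x1) (P.f y1) (P.e x2) (P.f y2) * nn Q e0 f0 (P.e x1) (P.f y1) * r with hw
  have hwE : w ∈ E Q := E_mul (E_mul (nn_mem_E _ _ _ _) (nn_mem_E _ _ _ _)) hrE
  have hSE : P.S (g * g) ∈ E Q := by
    rw [P.S_mul]; exact sq_mem_E hG (P.S_mem_O g)
  have haE : P.S (g * g) * T Q e0 d ∈ E Q := E_mul hSE (T_mem_E _ _)
  refine ⟨P.S (g * g) * T Q e0 d, w, haE, hwE, ?_⟩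
  set H := Subgroup.closure {P.S (g * g) * T Q e0 d, w} with hH
  have ha : P.S (g * g) * T Q e0 d ∈ H := Subgroup.subset_closure (by simp)
  have hwH : w ∈ H := Subgroup.subset_closure (by simp)
  have hHO : H ≤ O Q := by
    rw [hH, Subgroup.closure_le]
    rintro x (rfl | rfl)
    · exact E_le_O haE
    · exact E_le_O hwE
  -- coprime orders
  have hcomm : Commute (P.S (g * g)) (T Q e0 d) := by
    have h1 := T_conj (P.S_mem_O (g * g)) e0 d
    rw [P.S_perp _ he0, P.S_perp _ hd, mul_inv_eq_iff_eq_mul] at h1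
    exact h1
  have hS1 : P.S (g * g) ^ Nat.card Kˣ = 1 := by
    rw [← P.S_pow, pow_card_eq_one', P.S_one]
  have hT1 : T Q e0 d ^ ringChar F = 1 := by
    rw [T_pow h0.left hed, ← Nat.cast_smul_eq_nsmul F, CharP.cast_eq_zero, zero_smul, T_zero_right]
  obtain ⟨hS, hτ⟩ := mem_of_mul_coprime hcomm (coprime_card_units F K) hS1 hT1 ha
  -- the action of `r`
  have hdd0 : polar Q d0 d0 = 2 * Q d0 := polar_self' d0
  have hpd' : polar Q d0 d' = - polar Q d0 d := by
    rw [hd', polar_sub_right, polar_smul_right, hdd0, smul_eq_mul]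
    field_simp
    ring
  have hd'P : P.Perp d' := by
    refine ⟨?_, ?_⟩
    · rw [hd', map_sub, map_smul, hd.1, hd0.1, smul_zero, sub_zero]
    · rw [hd', map_sub, map_smul, hd.2, hd0.2, smul_zero, sub_zero]
  have hed' : polar Q e0 d' = 0 := by
    rw [hd', polar_sub_right, polar_smul_right, hed0, hed, smul_zero, sub_zero]
  have hfd' : polar Q f0 d' = 0 := by
    rw [hd', polar_sub_right, polar_smul_right, hfd0, hfd, smul_zero, sub_zero]
  have hrd : r d = d' := hr d hed hfd
  have hrd' : r d' = d := by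
    rw [hr d' hed' hfd', hpd', hd']
    module
  have hfixe : ∀ z : K, r (P.e z) = P.e z := by
    intro z
    rw [hr _ (P.polar_e' he0 z) (P.polar_e' hf0 z), P.polar_e' hd0, mul_zero, zero_smul, sub_zero]
  have hfixf : ∀ z : K, r (P.f z) = P.f z := by
    intro z
    rw [hr _ (P.polar_f' he0 z) (P.polar_f' hf0 z), P.polar_f' hd0, mul_zero, zero_smul, sub_zero]
  refine E_le_of_three hG hHO P h0 he0 hf0 h11 h12 h21 h22 hd hd'P hed hfd hed' hfd' ?_ ?_ hg hS hτ hQ0
    hre hrf (hfixe _) (hfixe _) (hfixf _) (hfixf _) hrd hrd' hwH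
  · by_contra hcon
    push Not at hcon
    obtain ⟨h1, h2⟩ := hcon
    rw [hd', polar_sub_left, h2, polar_smul_left, smul_eq_mul, zero_sub, neg_eq_zero] at h1
    rcases mul_eq_zero.1 h1 with h3 | h3
    · rcases mul_eq_zero.1 h3 with h4 | h4
      · exact inv_ne_zero hQ0 h4
      · exact hdd h4
    · exact hdd h3
  · intro v h1 h2 h3
    have h4 := hspan v h1 h2 h3
    refine (Submodule.span_le.2 ?_) h4
    rintro x (rfl | rfl)
    · -- `d0` is a combination of `d` and `d'`
      have hk : ((Q x)⁻¹ * polar Q x d) ≠ 0 := mul_ne_zero (inv_ne_zero hQ0) hdd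
      have e : x = ((Q x)⁻¹ * polar Q x d)⁻¹ • d - ((Q x)⁻¹ * polar Q x d)⁻¹ • d' := by
        rw [hd', ← smul_sub, sub_sub_cancel, smul_smul, inv_mul_cancel₀ hk, one_smul]
      have h5 : ((Q x)⁻¹ * polar Q x d)⁻¹ • d - ((Q x)⁻¹ * polar Q x d)⁻¹ • d' ∈
          Submodule.span F {d, d'} :=
        Submodule.sub_mem _ (Submodule.smul_mem _ _ (Submodule.subset_span (by simp)))
          (Submodule.smul_mem _ _ (Submodule.subset_span (by simp)))
      rw [SetLike.mem_coe, e]
      exact h5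
    · exact Submodule.subset_span (by simp)

end Cfsg.Agent.H137
end

-- part: H137/Fam
section
/-!
# Two-generation of `E Q` from a hyperbolic family, transfer to `POmega` (helper137)
-/

set_option autoImplicit false

namespace Cfsg.Agent.H137

open QuadraticMap Cfsg.Agent.LieClassical.OrthCore Cfsg.Agent.LieClassical.OrthTrans
  Cfsg.Agent.LieClassical.OrthSimple Cfsg.Agent.ClassicalGeometry.OrthAutBasic
  Cfsg.Agent.H887.SiegelMethod

variable {F V : Type*} [Field F] [AddCommGroup V] [Module F V] {Q : QuadraticForm F V}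

/-- A hyperbolic family. -/
structure HypFam (Q : QuadraticForm F V) {ι : Type*} [DecidableEq ι] (ev fv : ι → V) : Prop where
  Qe : ∀ i, Q (ev i) = 0
  Qf : ∀ i, Q (fv i) = 0
  ee : ∀ i j, polar Q (ev i) (ev j) = 0
  ff : ∀ i j, polar Q (fv i) (fv j) = 0
  ef : ∀ i j, polar Q (ev i) (fv j) = if i = j then 1 else 0

/-- A totally singular span. -/
theorem tsing {ι : Type*} {ev : ι → V} (h1 : ∀ i, Q (ev i) = 0) (h2 : ∀ i j, polar Q (ev i) (ev j) = 0)
    {v : V} (hv : v ∈ Submodule.span F (Set.range ev)) : Q v = 0 := by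
  have hp : ∀ x ∈ Submodule.span F (Set.range ev), ∀ y ∈ Submodule.span F (Set.range ev),
      polar Q x y = 0 := by
    intro x hx y hy
    induction hx using Submodule.span_induction with
    | mem x hx =>
      obtain ⟨i, rfl⟩ := hx
      induction hy using Submodule.span_induction with
      | mem y hy => obtain ⟨j, rfl⟩ := hy; exact h2 i j
      | zero => exact polar_zero_right Q _
      | add a b _ _ ha hb => rw [polar_add_right, ha, hb, add_zero]
      | smul c a _ ha => rw [polar_smul_right, ha, smul_zero]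
    | zero => exact polar_zero_left Q _
    | add a b _ _ ha hb => rw [polar_add_left, ha, hb, add_zero]
    | smul c a _ ha => rw [polar_smul_left, ha, smul_zero]
  induction hv using Submodule.span_induction with
  | mem x hx => obtain ⟨i, rfl⟩ := hx; exact h1 i
  | zero => exact QuadraticMap.map_zero Q
  | add a b ha hb ha' hb' => rw [Q_add, ha', hb', hp a ha b hb]; simp
  | smul c a _ ha => rw [QuadraticMap.map_smul, ha, smul_zero]

/-- The pair structure of a hyperbolic family and a basis of `K`. -/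
noncomputable def mkPair {K : Type*} [Field K] [Algebra F K] [FiniteDimensional F K]
    [Algebra.IsSeparable F K] {ι : Type*} [Fintype ι] [DecidableEq ι] (b : Module.Basis ι F K) {ev fv : ι → V}
    (h : HypFam Q ev fv) : SPair Q K where
  e := b.constr F ev
  f := b.traceDual.constr F fv
  pe := ∑ i, (QuadraticMap.polarBilin Q (fv i)).smulRight (b i)
  pf := ∑ i, (QuadraticMap.polarBilin Q (ev i)).smulRight (b.traceDual i)
  Qe := by
    intro x
    refine tsing h.Qe h.ee ?_
    rw [← b.constr_range F]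
    exact LinearMap.mem_range_self _ _
  Qf := by
    intro x
    refine tsing h.Qf h.ff ?_
    rw [← b.traceDual.constr_range F]
    exact LinearMap.mem_range_self _ _
  pf_spec := by
    intro x v
    have key : (QuadraticMap.polarBilin Q).flip v ∘ₗ b.constr F ev =
        (Algebra.trace F K) ∘ₗ (LinearMap.mulRight F (((∑ i, (QuadraticMap.polarBilin Q (ev i)).smulRight
          (b.traceDual i) : V →ₗ[F] K)) v)) := by
      refine b.ext fun j => ?_
      simp only [LinearMap.comp_apply, b.constr_basis, LinearMap.flip_apply, polarBilin_apply_apply,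
        LinearMap.mulRight_apply, LinearMap.sum_apply, LinearMap.smulRight_apply, Finset.mul_sum, map_sum,
        mul_smul_comm, map_smul, b.trace_mul_traceDual, smul_eq_mul, mul_ite, mul_one, mul_zero]
      simp
    exact LinearMap.congr_fun key x
  pe_spec := by
    intro x v
    have key : (QuadraticMap.polarBilin Q).flip v ∘ₗ b.traceDual.constr F fv =
        (Algebra.trace F K) ∘ₗ (LinearMap.mulRight F (((∑ i, (QuadraticMap.polarBilin Q (fv i)).smulRight
          (b i) : V →ₗ[F] K)) v)) := by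
      refine b.traceDual.ext fun j => ?_
      simp only [LinearMap.comp_apply, b.traceDual.constr_basis, LinearMap.flip_apply, polarBilin_apply_apply,
        LinearMap.mulRight_apply, LinearMap.sum_apply, LinearMap.smulRight_apply, Finset.mul_sum, map_sum,
        mul_smul_comm, map_smul, b.trace_traceDual_mul, smul_eq_mul, mul_ite, mul_one, mul_zero]
      simp
    exact LinearMap.congr_fun key x
  pe_e := by
    intro x
    have key : (∑ i, (QuadraticMap.polarBilin Q (fv i)).smulRight (b i) : V →ₗ[F] K) ∘ₗ b.constr F ev =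
        LinearMap.id := by
      refine b.ext fun j => ?_
      simp only [LinearMap.comp_apply, b.constr_basis, LinearMap.sum_apply, LinearMap.smulRight_apply,
        polarBilin_apply_apply, LinearMap.id_apply]
      rw [Finset.sum_eq_single j]
      · rw [polar_comm, h.ef, if_pos rfl, one_smul]
      · intro i _ hij
        rw [polar_comm, h.ef, if_neg (Ne.symm hij), zero_smul]
      · simp
    exact LinearMap.congr_fun key x
  pe_f := by
    intro x
    have key : (∑ i, (QuadraticMap.polarBilin Q (fv i)).smulRight (b i) : V →ₗ[F] K) ∘ₗ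
        b.traceDual.constr F fv = 0 := by
      refine b.traceDual.ext fun j => ?_
      simp only [LinearMap.comp_apply, b.traceDual.constr_basis, LinearMap.sum_apply, LinearMap.smulRight_apply,
        polarBilin_apply_apply, LinearMap.zero_apply, h.ff, zero_smul, Finset.sum_const_zero]
    exact LinearMap.congr_fun key x
  pf_e := by
    intro x
    have key : (∑ i, (QuadraticMap.polarBilin Q (ev i)).smulRight (b.traceDual i) : V →ₗ[F] K) ∘ₗ
        b.constr F ev = 0 := by
      refine b.ext fun j => ?_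
      simp only [LinearMap.comp_apply, b.constr_basis, LinearMap.sum_apply, LinearMap.smulRight_apply,
        polarBilin_apply_apply, LinearMap.zero_apply, h.ee, zero_smul, Finset.sum_const_zero]
    exact LinearMap.congr_fun key x
  pf_f := by
    intro x
    have key : (∑ i, (QuadraticMap.polarBilin Q (ev i)).smulRight (b.traceDual i) : V →ₗ[F] K) ∘ₗ
        b.traceDual.constr F fv = LinearMap.id := by
      refine b.traceDual.ext fun j => ?_
      simp only [LinearMap.comp_apply, b.traceDual.constr_basis, LinearMap.sum_apply, LinearMap.smulRight_apply,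
        polarBilin_apply_apply, LinearMap.id_apply]
      rw [Finset.sum_eq_single j]
      · rw [h.ef, if_pos rfl, one_smul]
      · intro i _ hij
        rw [h.ef, if_neg hij, zero_smul]
      · simp
    exact LinearMap.congr_fun key x

/-- A finite extension of given degree. -/
theorem exists_ext (F : Type*) [Field F] [Finite F] (k : ℕ) (hk : k ≠ 0) :
    ∃ (K : Type) (_ : Field K) (_ : Finite K) (_ : Algebra F K), Module.finrank F K = k := by
  have : NeZero k := ⟨hk⟩
  have : CharP F (ringChar F) := ringChar.charP F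
  have : Fact (ringChar F).Prime := ⟨CharP.char_is_prime F _⟩
  exact ⟨FiniteField.Extension F (ringChar F) k, inferInstance, inferInstance, inferInstance,
    FiniteField.finrank_extension F (ringChar F) k⟩

theorem perp_mkPair {K : Type*} [Field K] [Algebra F K] [FiniteDimensional F K]
    [Algebra.IsSeparable F K] {ι : Type*} [Fintype ι] [DecidableEq ι] (b : Module.Basis ι F K) {ev fv : ι → V}
    (h : HypFam Q ev fv) (v : V) :
    (mkPair b h).Perp v ↔ (∀ i, polar Q (ev i) v = 0) ∧ ∀ i, polar Q (fv i) v = 0 := by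
  have e1 : (mkPair b h).pe v = ∑ i, polar Q (fv i) v • b i := by
    show (∑ i, (QuadraticMap.polarBilin Q (fv i)).smulRight (b i) : V →ₗ[F] K) v = _
    simp only [LinearMap.sum_apply, LinearMap.smulRight_apply, polarBilin_apply_apply]
  have e2 : (mkPair b h).pf v = ∑ i, polar Q (ev i) v • b.traceDual i := by
    show (∑ i, (QuadraticMap.polarBilin Q (ev i)).smulRight (b.traceDual i) : V →ₗ[F] K) v = _
    simp only [LinearMap.sum_apply, LinearMap.smulRight_apply, polarBilin_apply_apply]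
  constructor
  · rintro ⟨h1, h2⟩
    rw [e1] at h1
    rw [e2] at h2
    exact ⟨fun i => (Fintype.linearIndependent_iff.1 b.traceDual.linearIndependent) _ h2 i,
      fun i => (Fintype.linearIndependent_iff.1 b.linearIndependent) _ h1 i⟩
  · rintro ⟨h1, h2⟩
    refine ⟨?_, ?_⟩
    · rw [e1]; simp [h2]
    · rw [e2]; simp [h1]

/-- **Two-generation of `E Q`** from a hyperbolic family of size `k + 1`, `k ≥ 2`, with orthogonal complement
spanned by `d0` and `d`. -/
theorem two_gen_of_fam [Finite F] [FiniteDimensional F V] (hG : Good Q) {k : ℕ} (hk : 2 ≤ k)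
    {ev fv : Fin (k + 1) → V} (h : HypFam Q ev fv) {d0 d : V}
    (h1 : ∀ i, polar Q (ev i) d0 = 0) (h2 : ∀ i, polar Q (fv i) d0 = 0)
    (h3 : ∀ i, polar Q (ev i) d = 0) (h4 : ∀ i, polar Q (fv i) d = 0)
    (hQ0 : Q d0 ≠ 0) (hdd : polar Q d0 d ≠ 0)
    (hspan : ∀ v, (∀ i, polar Q (ev i) v = 0) → (∀ i, polar Q (fv i) v = 0) → v ∈ Submodule.span F {d0, d}) :
    ∃ a b : V ≃ₗ[F] V, a ∈ E Q ∧ b ∈ E Q ∧ E Q ≤ Subgroup.closure {a, b} := by
  obtain ⟨K, _, _, _, hK⟩ := exists_ext F k (by omega)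
  have : FiniteDimensional F K := Module.finite_of_finrank_pos (by omega)
  have : Algebra.IsSeparable F K := inferInstance
  let b : Module.Basis (Fin k) F K := (Module.finBasis F K).reindex (finCongr hK)
  have hfam : HypFam Q (fun i : Fin k => ev i.succ) (fun i : Fin k => fv i.succ) := by
    refine ⟨fun i => h.Qe _, fun i => h.Qf _, fun i j => h.ee _ _, fun i j => h.ff _ _, fun i j => ?_⟩
    rw [h.ef]
    simp only [Fin.succ_inj]
  set P := mkPair b hfam with hP
  have hpe : ∀ v, P.Perp v ↔ (∀ i : Fin k, polar Q (ev i.succ) v = 0) ∧ ∀ i : Fin k, polar Q (fv i.succ) v = 0 :=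
    fun v => perp_mkPair b hfam v
  have hyp : Hyp Q (ev 0) (fv 0) := ⟨h.Qe _, h.Qf _, by rw [h.ef, if_pos rfl]⟩
  have he0 : P.Perp (ev 0) := (hpe _).2 ⟨fun i => h.ee _ _, fun i => by
    rw [polar_comm, h.ef, if_neg (Fin.succ_ne_zero i).symm]⟩
  have hf0 : P.Perp (fv 0) := (hpe _).2 ⟨fun i => by
    rw [h.ef, if_neg (Fin.succ_ne_zero i)], fun i => h.ff _ _⟩
  have h01 : (⟨0, by omega⟩ : Fin k) ≠ ⟨1, by omega⟩ := by
    intro h; simp [Fin.ext_iff] at h
  refine two_gen_E hG P hyp he0 hf0 (x1 := b ⟨0, by omega⟩) (x2 := b ⟨1, by omega⟩)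
    (y1 := b.traceDual ⟨0, by omega⟩) (y2 := b.traceDual ⟨1, by omega⟩) ?_ ?_ ?_ ?_
    ((hpe d0).2 ⟨fun i => h1 _, fun i => h2 _⟩) ((hpe d).2 ⟨fun i => h3 _, fun i => h4 _⟩)
    (h1 0) (h2 0) (h3 0) (h4 0) hQ0 hdd ?_
  · rw [b.trace_mul_traceDual, if_pos rfl]
  · rw [b.trace_mul_traceDual, if_neg h01]
  · rw [b.trace_mul_traceDual, if_neg h01.symm]
  · rw [b.trace_mul_traceDual, if_pos rfl]
  · intro v hv hv1 hv2
    refine hspan v (fun i => ?_) (fun i => ?_)
    · refine Fin.cases hv1 (fun j => ((hpe v).1 hv).1 j) i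
    · refine Fin.cases hv2 (fun j => ((hpe v).1 hv).2 j) i

/-- Quotients of two-generated groups. -/
theorem two_gen_surj {G G' : Type*} [Group G] [Group G'] (f : G →* G') (hf : Function.Surjective f)
    (h : ∃ a b : G, Subgroup.closure ({a, b} : Set G) = ⊤) :
    ∃ a b : G', Subgroup.closure ({a, b} : Set G') = ⊤ := by
  obtain ⟨a, b, hab⟩ := h
  refine ⟨f a, f b, ?_⟩
  have h1 := congrArg (Subgroup.map f) hab
  rw [MonoidHom.map_closure, Set.image_pair, ← MonoidHom.range_eq_map, MonoidHom.range_eq_top.2 hf] at h1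
  exact h1

/-- Transfer to `POmega`. -/
theorem two_gen_POmega {ι : Type} [Fintype ι] [DecidableEq ι] {F : Type*} [Field F]
    {Q : QuadraticForm F (ι → F)} (hG : Good Q)
    (h : ∃ a b : (ι → F) ≃ₗ[F] (ι → F), a ∈ E Q ∧ b ∈ E Q ∧ E Q ≤ Subgroup.closure {a, b}) :
    ∃ a b : Cfsg.POmega F ⇑Q, Subgroup.closure ({a, b} : Set (Cfsg.POmega F ⇑Q)) = ⊤ := by
  rw [← hG.commutator_eq_E] at h
  have h1 := Cfsg.Agent.H136.TwoGen.of_ambient _ h
  have h2 := two_gen_surj (Cfsg.Agent.LieClassical.OrthFinite.omegaEquiv Q).symm.toMonoidHom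
    (Cfsg.Agent.LieClassical.OrthFinite.omegaEquiv Q).symm.surjective h1
  exact two_gen_surj (QuotientGroup.mk' _) (QuotientGroup.mk'_surjective _) h2

end Cfsg.Agent.H137
end
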