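import Mathlib
import Cfsg.Agent.H137.Fam
import Cfsg.Agent.S0765
import Cfsg.Agent.ClassicalGeometry.SympBasic
set_option linter.all false

-- part: H137/SpModel
section
/-!
# Two-generation of symplectic groups: the model `K × K × F × F` (helper137)

The alternating form is `Tr (x y') - Tr (x' y) + p q' - q p'`. The group generated by
`S = (ω x, ω⁻¹ y, p, q)` and `U 1 * w`, `w = (-y, x, -q, p - q)`, contains all transvections.
-/

set_option autoImplicit false

namespace Cfsg.Agent.H137.SpModel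

variable (F K : Type*) [Field F] [Field K] [Algebra F K]

/-- The model space. -/
abbrev M : Type _ := K × K × F × F

variable {F K}

local notation "tr" => Algebra.trace F K

/-- The alternating form. -/
noncomputable def B (u v : M F K) : F :=
  tr (u.1 * v.2.1) - tr (v.1 * u.2.1) + u.2.2.1 * v.2.2.2 - u.2.2.2 * v.2.2.1

theorem B_def (u v : M F K) :
    B u v = tr (u.1 * v.2.1) - tr (v.1 * u.2.1) + u.2.2.1 * v.2.2.2 - u.2.2.2 * v.2.2.1 := rfl

theorem B_smul_right (c : F) (u v : M F K) : B u (c • v) = c * B u v := by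
  simp only [B_def, Prod.smul_fst, Prod.smul_snd, mul_smul_comm, smul_mul_assoc, map_smul, smul_eq_mul]
  ring

/-- The isometry group of the form. -/
def Sp (F K : Type*) [Field F] [Field K] [Algebra F K] : Subgroup (M F K ≃ₗ[F] M F K) where
  carrier := {g | ∀ u v, B (g u) (g v) = B u v}
  mul_mem' {a b} ha hb := fun u v => by
    show B (a (b u)) (a (b v)) = _
    rw [ha, hb]
  one_mem' := fun u v => rfl
  inv_mem' {a} ha := fun u v => by
    have h := ha (a⁻¹ u) (a⁻¹ v)
    have e1 : a (a⁻¹ u) = u := LinearEquiv.apply_symm_apply a u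
    have e2 : a (a⁻¹ v) = v := LinearEquiv.apply_symm_apply a v
    rw [e1, e2] at h
    exact h.symm

theorem mem_Sp {g : M F K ≃ₗ[F] M F K} : g ∈ Sp F K ↔ ∀ u v, B (g u) (g v) = B u v := Iff.rfl

/-- The Singer element. -/
def S (c : Kˣ) : M F K ≃ₗ[F] M F K where
  toFun v := ((c : K) * v.1, ((c⁻¹ : Kˣ) : K) * v.2.1, v.2.2.1, v.2.2.2)
  invFun v := (((c⁻¹ : Kˣ) : K) * v.1, (c : K) * v.2.1, v.2.2.1, v.2.2.2)
  map_add' u v := by ext <;> simp [mul_add]
  map_smul' a v := by ext <;> simp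
  left_inv v := by ext <;> simp
  right_inv v := by ext <;> simp

theorem S_apply (c : Kˣ) (v : M F K) :
    S (F := F) c v = ((c : K) * v.1, ((c⁻¹ : Kˣ) : K) * v.2.1, v.2.2.1, v.2.2.2) := rfl

/-- `T(e₀, z)`, `z` in the first copy of `K`. -/
noncomputable def U (z : K) : M F K ≃ₗ[F] M F K where
  toFun v := (v.1 - v.2.2.2 • z, v.2.1, v.2.2.1 - tr (z * v.2.1), v.2.2.2)
  invFun v := (v.1 + v.2.2.2 • z, v.2.1, v.2.2.1 + tr (z * v.2.1), v.2.2.2)
  map_add' u v := by
    ext
    · simp [add_smul]; abel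
    · simp
    · simp [mul_add]; abel
    · simp
  map_smul' a v := by
    ext
    · simp [smul_sub, mul_smul]
    · simp
    · simp [mul_sub]
    · simp
  left_inv v := by ext <;> simp
  right_inv v := by ext <;> simp

theorem U_apply (z : K) (v : M F K) :
    U (F := F) z v = (v.1 - v.2.2.2 • z, v.2.1, v.2.2.1 - tr (z * v.2.1), v.2.2.2) := rfl

/-- The Weyl element. -/
def w : M F K ≃ₗ[F] M F K where
  toFun v := (-v.2.1, v.1, -v.2.2.2, v.2.2.1 - v.2.2.2)
  invFun v := (v.2.1, -v.1, v.2.2.2 - v.2.2.1, -v.2.2.1)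
  map_add' u v := by
    ext
    · simp; abel
    · simp
    · simp; abel
    · simp; abel
  map_smul' a v := by
    ext
    · simp
    · simp
    · simp
    · simp [mul_sub]
  left_inv v := by ext <;> simp
  right_inv v := by ext <;> simp

theorem w_apply (v : M F K) : w (F := F) v = (-v.2.1, v.1, -v.2.2.2, v.2.2.1 - v.2.2.2) := rfl

theorem S_mem (c : Kˣ) : S (F := F) c ∈ Sp F K := by
  intro u v
  simp only [S_apply, B_def]
  have e1 : (c : K) * u.1 * (((c⁻¹ : Kˣ) : K) * v.2.1) = u.1 * v.2.1 := by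
    calc _ = ((c : K) * ((c⁻¹ : Kˣ) : K)) * (u.1 * v.2.1) := by ring
      _ = _ := by simp
  have e2 : (c : K) * v.1 * (((c⁻¹ : Kˣ) : K) * u.2.1) = v.1 * u.2.1 := by
    calc _ = ((c : K) * ((c⁻¹ : Kˣ) : K)) * (v.1 * u.2.1) := by ring
      _ = _ := by simp
  rw [e1, e2]

theorem U_mem (z : K) : U (F := F) z ∈ Sp F K := by
  intro u v
  simp only [U_apply, B_def, sub_mul, map_sub, smul_mul_assoc, map_smul, smul_eq_mul]
  ring

theorem w_mem : w (F := F) (K := K) ∈ Sp F K := by
  intro u v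
  simp only [w_apply, B_def, neg_mul, map_neg, mul_comm v.2.1 u.1, mul_comm u.2.1 v.1]
  ring

theorem U_add (z z' : K) : U (F := F) (z + z') = U z * U z' := by
  apply LinearEquiv.ext
  intro v
  show U (z + z') v = U z (U z' v)
  simp only [U_apply, smul_add, add_mul, map_add]
  ext
  · simp; abel
  · simp
  · simp; abel
  · simp

theorem U_zero : U (F := F) (0 : K) = 1 := by
  apply LinearEquiv.ext
  intro v
  show U 0 v = v
  rw [U_apply]
  simp

theorem U_neg (z : K) : U (F := F) (-z) = (U z)⁻¹ := by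
  rw [eq_inv_iff_mul_eq_one, ← U_add, neg_add_cancel, U_zero]

theorem S_mul (c d : Kˣ) : S (F := F) (c * d) = S c * S d := by
  apply LinearEquiv.ext
  intro v
  show S (c * d) v = S c (S d v)
  simp only [S_apply, mul_inv, Units.val_mul]
  ext
  · simp [mul_assoc]
  · simp [mul_assoc]
  · simp
  · simp

theorem S_one : S (F := F) (1 : Kˣ) = 1 := by
  apply LinearEquiv.ext
  intro v
  show S 1 v = v
  simp [S_apply]

/-- `S` as a homomorphism. -/
def SHom : Kˣ →* (M F K ≃ₗ[F] M F K) where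
  toFun := S
  map_one' := S_one
  map_mul' := S_mul

theorem S_zpow (c : Kˣ) (n : ℤ) : S (F := F) (c ^ n) = S c ^ n := map_zpow SHom c n

theorem S_inv (c : Kˣ) : S (F := F) (c⁻¹) = (S c)⁻¹ := map_inv SHom c

theorem S_U (c : Kˣ) (z : K) : S (F := F) c * U z * (S c)⁻¹ = U ((c : K) * z) := by
  rw [mul_inv_eq_iff_eq_mul]
  apply LinearEquiv.ext
  intro v
  show S c (U z v) = U ((c : K) * z) (S c v)
  simp only [U_apply, S_apply]
  ext
  · simp [mul_sub]
  · simp
  · simp only
    have e : (c : K) * z * (((c⁻¹ : Kˣ) : K) * v.2.1) = z * v.2.1 := by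
      calc _ = ((c : K) * ((c⁻¹ : Kˣ) : K)) * (z * v.2.1) := by ring
        _ = _ := by simp
    rw [e]
  · simp

theorem w_S (c : Kˣ) : w * S (F := F) c * w⁻¹ = S c⁻¹ := by
  rw [mul_inv_eq_iff_eq_mul]
  apply LinearEquiv.ext
  intro v
  show w (S c v) = S c⁻¹ (w v)
  simp only [w_apply, S_apply, inv_inv]
  ext <;> simp

/-! ### The elements of the group generated by `S` and `U 1 * w` -/

section gen

variable {H : Subgroup (M F K ≃ₗ[F] M F K)}

/-- all `U z` and `w` are in `H` -/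
theorem U_w_mem [Finite K] {g : Kˣ} (hg : ∀ c : Kˣ, c ∈ Subgroup.zpowers g) (h1 : g ≠ 1)
    (hS : S (F := F) g ∈ H) (hUw : U (F := F) (1 : K) * w ∈ H) :
    (∀ z : K, U (F := F) z ∈ H) ∧ w (F := F) (K := K) ∈ H := by
  have hSall : ∀ c : Kˣ, S (F := F) c ∈ H := by
    intro c
    obtain ⟨n, rfl⟩ := Subgroup.mem_zpowers_iff.1 (hg c)
    rw [S_zpow]
    exact H.zpow_mem hS n
  have h2 : S (F := F) g * (U (F := F) (1 : K) * w * S (F := F) g * (U (F := F) (1 : K) * w)⁻¹) ∈ H :=
    H.mul_mem hS (H.mul_mem (H.mul_mem hUw hS) (H.inv_mem hUw))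
  have e1 : S (F := F) g * (U (F := F) (1 : K) * w * S (F := F) g * (U (F := F) (1 : K) * w)⁻¹) =
      U (F := F) ((g : K) * 1 + -1) := by
    have e2 : U (F := F) (1 : K) * w * S (F := F) g * (U (F := F) (1 : K) * w)⁻¹ =
        U (F := F) (1 : K) * (w * S (F := F) g * w⁻¹) * (U (F := F) (1 : K))⁻¹ := by group
    rw [e2, w_S, S_inv, U_add, U_neg, ← S_U]
    group
  rw [e1] at h2
  have hz0 : (g : K) * 1 + -1 ≠ 0 := by
    intro h
    apply h1
    apply Units.ext
    rw [Units.val_one]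
    linear_combination h
  let Y : AddSubgroup K :=
    { carrier := {z | U (F := F) z ∈ H}
      zero_mem' := by
        show U (F := F) 0 ∈ H
        rw [U_zero]; exact H.one_mem
      add_mem' := by
        intro a b ha hb
        show U (F := F) (a + b) ∈ H
        rw [U_add]; exact H.mul_mem ha hb
      neg_mem' := by
        intro a ha
        show U (F := F) (-a) ∈ H
        rw [U_neg]; exact H.inv_mem ha }
  have hY : ∀ c : K, c ≠ 0 → ∀ y ∈ Y, c ^ 2 * y ∈ Y := by
    intro c hc y hy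
    show U (F := F) (c ^ 2 * y) ∈ H
    have h3 := H.mul_mem (H.mul_mem (hSall (Units.mk0 (c ^ 2) (pow_ne_zero 2 hc))) hy)
      (H.inv_mem (hSall (Units.mk0 (c ^ 2) (pow_ne_zero 2 hc))))
    rw [S_U] at h3
    exact h3
  have hU : ∀ z : K, U (F := F) z ∈ H := fun z => mem_of_sq_mul Y hY h2 hz0 z
  refine ⟨hU, ?_⟩
  have := H.mul_mem (H.inv_mem (hU 1)) hUw
  rwa [inv_mul_cancel_left] at this

/-- `w ^ 4`: acts only on the last two coordinates. -/
theorem w_pow_four (v : M F K) : (w (F := F) (K := K) ^ 4) v = (v.1, v.2.1, -v.2.2.2, v.2.2.1 - v.2.2.2) := by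
  show w (w (w (w v))) = _
  simp only [w_apply]
  ext <;> simp <;> ring

theorem w_pow_three (v : M F K) : (w (F := F) (K := K) ^ 3) v = (v.2.1, -v.1, v.2.2.1, v.2.2.2) := by
  show w (w (w v)) = _
  simp only [w_apply]
  ext <;> simp <;> ring

theorem w_pow_four_inv (v : M F K) :
    ((w (F := F) (K := K) ^ 4)⁻¹) v = (v.1, v.2.1, v.2.2.2 - v.2.2.1, -v.2.2.1) := by
  have h : (w (F := F) (K := K) ^ 4) (v.1, v.2.1, v.2.2.2 - v.2.2.1, -v.2.2.1) = v := by
    rw [w_pow_four]; ext <;> simp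
  have h2 : ((w (F := F) (K := K) ^ 4)⁻¹) ((w (F := F) (K := K) ^ 4) (v.1, v.2.1, v.2.2.2 - v.2.2.1, -v.2.2.1)) =
      (v.1, v.2.1, v.2.2.2 - v.2.2.1, -v.2.2.1) := LinearEquiv.symm_apply_apply _ _
  rwa [h] at h2

theorem w_pow_three_inv (v : M F K) :
    ((w (F := F) (K := K) ^ 3)⁻¹) v = (-v.2.1, v.1, v.2.2.1, v.2.2.2) := by
  have h : (w (F := F) (K := K) ^ 3) (-v.2.1, v.1, v.2.2.1, v.2.2.2) = v := by
    rw [w_pow_three]; ext <;> simp
  have h2 : ((w (F := F) (K := K) ^ 3)⁻¹) ((w (F := F) (K := K) ^ 3) (-v.2.1, v.1, v.2.2.1, v.2.2.2)) =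
      (-v.2.1, v.1, v.2.2.1, v.2.2.2) := LinearEquiv.symm_apply_apply _ _
  rwa [h] at h2

/-- membership of an element with a given action -/
def Has (H : Subgroup (M F K ≃ₗ[F] M F K)) (f : M F K → M F K) : Prop := ∃ g ∈ H, ∀ v, g v = f v

/-- `u` is the centre of a full transvection group of `H` -/
def X (H : Subgroup (M F K ≃ₗ[F] M F K)) (u : M F K) : Prop :=
  ∀ c : F, Has H (fun v => v + (c * B v u) • u)

theorem X_map {u : M F K} (h : X H u) {g : M F K ≃ₗ[F] M F K} (hg : g ∈ H) (hgS : g ∈ Sp F K) : X H (g u) := by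
  intro c
  obtain ⟨t, ht, hv⟩ := h c
  refine ⟨g * t * g⁻¹, H.mul_mem (H.mul_mem hg ht) (H.inv_mem hg), fun v => ?_⟩
  show g (t (g⁻¹ v)) = _
  have e : g (g⁻¹ v) = v := LinearEquiv.apply_symm_apply g v
  rw [hv, map_add, map_smul, e]
  have h1 : B (g⁻¹ v) u = B v (g u) := by
    rw [← hgS (g⁻¹ v) u, e]
  rw [h1]

theorem X_of_map {u : M F K} {g : M F K ≃ₗ[F] M F K} (hg : g ∈ H) (hgS : g ∈ Sp F K) (h : X H (g u)) : X H u := by
  have := X_map h (H.inv_mem hg) ((Sp F K).inv_mem hgS)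
  have e : g⁻¹ (g u) = u := LinearEquiv.symm_apply_apply g u
  rwa [e] at this

theorem X_smul {u : M F K} (h : X H u) (a : F) : X H (a • u) := by
  intro c
  obtain ⟨t, ht, hv⟩ := h (a ^ 2 * c)
  refine ⟨t, ht, fun v => ?_⟩
  rw [hv]
  show v + (a ^ 2 * c * B v u) • u = v + (c * B v (a • u)) • a • u
  rw [B_smul_right, smul_smul]
  congr 2
  ring

/-- **the main step**: all transvections are in `H` -/
theorem X_all [Finite F] [Finite K] [FiniteDimensional F K] [Algebra.IsSeparable F K] (hHS : H ≤ Sp F K)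
    (hU : ∀ z : K, U (F := F) z ∈ H) (hw : w (F := F) (K := K) ∈ H) (u : M F K) : X H u := by
  have hW2 : w (F := F) (K := K) ^ 4 ∈ H := H.pow_mem hw 4
  have hW1 : w (F := F) (K := K) ^ 3 ∈ H := H.pow_mem hw 3
  set W2 := w (F := F) (K := K) ^ 4 with hW2def
  set W1 := w (F := F) (K := K) ^ 3 with hW1def
  -- the Siegel elements
  have hU2 : ∀ z : K, Has H (fun v : M F K => (v.1 + v.2.2.1 • z, v.2.1, v.2.2.1, v.2.2.2 - tr (z * v.2.1))) := by
    intro z
    refine ⟨W2 * U z * W2⁻¹, H.mul_mem (H.mul_mem hW2 (hU z)) (H.inv_mem hW2), fun v => ?_⟩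
    show W2 (U z (W2⁻¹ v)) = _
    rw [w_pow_four_inv, U_apply, w_pow_four]
    ext <;> simp <;> ring
  have hU3 : ∀ z : K, Has H (fun v : M F K => (v.1 + (v.2.2.2 - v.2.2.1) • z, v.2.1, v.2.2.1 + tr (z * v.2.1),
      v.2.2.2 + tr (z * v.2.1))) := by
    intro z
    obtain ⟨t, ht, hv⟩ := hU2 z
    refine ⟨W2 * t * W2⁻¹, H.mul_mem (H.mul_mem hW2 ht) (H.inv_mem hW2), fun v => ?_⟩
    show W2 (t (W2⁻¹ v)) = _
    rw [w_pow_four_inv, hv, w_pow_four]
    ext
    · simp
    · simp
    · simp; abel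
    · simp; abel
  have hV : ∀ z : K, Has H (fun v : M F K => (v.1, v.2.1 + v.2.2.2 • z, v.2.2.1 - tr (z * v.1), v.2.2.2)) := by
    intro z
    refine ⟨W1 * U z * W1⁻¹, H.mul_mem (H.mul_mem hW1 (hU z)) (H.inv_mem hW1), fun v => ?_⟩
    show W1 (U z (W1⁻¹ v)) = _
    rw [w_pow_three_inv, U_apply, w_pow_three]
    ext
    · simp
    · simp; abel
    · simp
    · simp
  have hV2 : ∀ z : K, Has H (fun v : M F K => (v.1, v.2.1 - v.2.2.1 • z, v.2.2.1, v.2.2.2 - tr (z * v.1))) := by
    intro z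
    obtain ⟨t, ht, hv⟩ := hV z
    refine ⟨W2 * t * W2⁻¹, H.mul_mem (H.mul_mem hW2 ht) (H.inv_mem hW2), fun v => ?_⟩
    show W2 (t (W2⁻¹ v)) = _
    rw [w_pow_four_inv, hv, w_pow_four]
    ext
    · simp
    · simp; abel
    · simp
    · simp; ring
  -- transvections with centre in the first copy of `K`, parameter `-1`
  have hm1 : ∀ z : K, Has H (fun v : M F K => v + ((-1 : F) * B v (z, 0, 0, 0)) • (z, (0 : K), (0 : F), (0 : F))) := by
    intro z
    obtain ⟨t2, ht2, hv2⟩ := hU2 z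
    obtain ⟨t3, ht3, hv3⟩ := hU3 z
    refine ⟨t3 * U z * t2, H.mul_mem (H.mul_mem ht3 (hU z)) ht2, fun v => ?_⟩
    show t3 (U z (t2 v)) = _
    rw [hv2, U_apply, hv3]
    simp only [B_def]
    ext
    · simp
      module
    · simp
    · simp
    · simp
  let Y : AddSubgroup F :=
    { carrier := {c | ∀ z : K, Has H (fun v : M F K => v + (c * B v (z, 0, 0, 0)) • (z, (0 : K), (0 : F), (0 : F)))}
      zero_mem' := fun z => ⟨1, H.one_mem, fun v => by simp⟩
      add_mem' := by
        intro a b ha hb z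
        obtain ⟨t, ht, hv⟩ := ha z
        obtain ⟨t', ht', hv'⟩ := hb z
        refine ⟨t * t', H.mul_mem ht ht', fun v => ?_⟩
        show t (t' v) = _
        rw [hv', hv]
        simp only [B_def]
        ext
        · simp
          module
        · simp
        · simp
        · simp
      neg_mem' := by
        intro a ha z
        obtain ⟨t, ht, hv⟩ := ha z
        refine ⟨t⁻¹, H.inv_mem ht, fun v => ?_⟩
        have h1 : t (v + (-a * B v (z, 0, 0, 0)) • (z, (0 : K), (0 : F), (0 : F))) = v := by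
          rw [hv]
          simp only [B_def]
          ext
          · simp
          · simp
          · simp
          · simp
        have h2 : t⁻¹ (t (v + (-a * B v (z, 0, 0, 0)) • (z, (0 : K), (0 : F), (0 : F)))) = _ :=
          LinearEquiv.symm_apply_apply t _
        rw [h1] at h2
        exact h2 }
  have hYall : ∀ c : F, c ∈ Y := by
    refine fun c => mem_of_sq_mul Y ?_ (y := (-1 : F)) hm1 (by simp) c
    intro c _ y hy z
    obtain ⟨t, ht, hv⟩ := hy (c • z)
    refine ⟨t, ht, fun v => ?_⟩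
    rw [hv]
    simp only [B_def]
    ext
    · simp
      module
    · simp
    · simp
    · simp
  have hX1 : ∀ z : K, X H ((z, 0, 0, 0) : M F K) := fun z c => hYall c z
  obtain ⟨a, ha⟩ := Algebra.trace_surjective F K 1
  have hX2 : ∀ x : K, X H ((x, 0, 1, 0) : M F K) := by
    intro x
    obtain ⟨t, ht, hv⟩ := hV a
    have h1 : X H ((1, 0, -1, 0) : M F K) := by
      have h2 := X_map (hX1 1) ht (hHS ht)
      rw [hv] at h2
      simpa [ha] using h2
    obtain ⟨t2, ht2, hv2⟩ := hU2 (1 + x)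
    have h3 : X H ((-x, 0, -1, 0) : M F K) := by
      have h4 := X_map h1 ht2 (hHS ht2)
      rw [hv2] at h4
      simpa using h4
    have h5 := X_smul h3 (-1)
    simpa using h5
  have hX3 : X H ((0, 0, 0, 1) : M F K) := by
    have h1 := X_map (hX2 0) hW2 (hHS hW2)
    rw [w_pow_four] at h1
    simpa using h1
  have hX4 : ∀ (x y : K) (q : F), X H ((x, y, 1, q) : M F K) := by
    intro x y q
    obtain ⟨t, ht, hv⟩ := hV2 (-y)
    have h1 := X_map (hX2 x) ht (hHS ht)
    rw [hv] at h1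
    obtain ⟨t2, ht2, hv2⟩ := hX3 (q - tr (y * x))
    have h2 := X_map h1 ht2 (hHS ht2)
    rw [hv2] at h2
    simp only [B_def] at h2
    have e : ((x, y, 1, q) : M F K) = ((x, (0 : K) - (1 : F) • (-y), (1 : F), 0 - tr (-y * x)) : M F K) +
        ((q - tr (y * x)) * (tr (x * (0 : K)) - tr (0 * ((0 : K) - (1 : F) • (-y))) + 1 * 1 -
          (0 - tr (-y * x)) * 0)) • ((0, 0, 0, 1) : M F K) := by
      ext
      · simp
      · simp
      · simp
      · simp
    rw [e]
    exact h2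
  have hX5 : ∀ (x y : K) (p q : F), p ≠ 0 → X H ((x, y, p, q) : M F K) := by
    intro x y p q hp
    have h1 := X_smul (hX4 (p⁻¹ • x) (p⁻¹ • y) (p⁻¹ * q)) p
    have e : ((x, y, p, q) : M F K) = p • ((p⁻¹ • x, p⁻¹ • y, 1, p⁻¹ * q) : M F K) := by
      ext
      · simp [smul_smul, mul_inv_cancel₀ hp]
      · simp [smul_smul, mul_inv_cancel₀ hp]
      · simp
      · simp [mul_inv_cancel_left₀ hp]
    rw [e]; exact h1
  obtain ⟨x, y, p, q⟩ := u
  by_cases hp : p = 0
  · by_cases hq : q = 0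
    · by_cases hy : y = 0
      · by_cases hx : x = 0
        · rw [hp, hq, hx, hy]
          intro c
          refine ⟨1, H.one_mem, fun v => ?_⟩
          ext <;> simp
        · obtain ⟨t, ht, hv⟩ := hV (a / x)
          refine X_of_map ht (hHS ht) ?_
          rw [hv]
          simp only [hp, hq, hy, div_mul_cancel₀ _ hx, ha]
          exact hX5 _ _ _ _ (by simp)
      · refine X_of_map (hU (a / y)) (hHS (hU _)) ?_
        rw [U_apply]
        simp only [hp, hq, div_mul_cancel₀ _ hy, ha]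
        exact hX5 _ _ _ _ (by simp)
    · refine X_of_map hW2 (hHS hW2) ?_
      rw [w_pow_four]
      exact hX5 _ _ _ _ (neg_ne_zero.2 hq)
  · exact hX5 _ _ _ _ hp

end gen

/-- **Two-generation of the model**: all transvections are in the group generated by two elements of `Sp`. -/
theorem exists_two [Finite F] [Finite K] [FiniteDimensional F K] [Algebra.IsSeparable F K] (h : 2 < Nat.card K) :
    ∃ a b : M F K ≃ₗ[F] M F K, a ∈ Sp F K ∧ b ∈ Sp F K ∧
      ∀ (u : M F K) (c : F), ∃ g ∈ Subgroup.closure {a, b}, ∀ v, g v = v + (c * B v u) • u := by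
  obtain ⟨g, hg⟩ := IsCyclic.exists_generator (α := Kˣ)
  have hg1 : g ≠ 1 := by
    rintro rfl
    have h1 : Nat.card Kˣ = 1 := by
      rw [Nat.card_eq_one_iff_unique]
      refine ⟨⟨fun a b => ?_⟩, ⟨1⟩⟩
      have h2 := hg a
      have h3 := hg b
      rw [Subgroup.zpowers_one_eq_bot, Subgroup.mem_bot] at h2 h3
      rw [h2, h3]
    rw [Nat.card_units] at h1
    omega
  refine ⟨S g, U 1 * w, S_mem g, (Sp F K).mul_mem (U_mem 1) w_mem, ?_⟩
  set H := Subgroup.closure {S (F := F) g, U (F := F) (1 : K) * w} with hH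
  have h1 : S (F := F) g ∈ H := Subgroup.subset_closure (by simp)
  have h2 : U (F := F) (1 : K) * w ∈ H := Subgroup.subset_closure (by simp)
  have hHS : H ≤ Sp F K := by
    rw [hH, Subgroup.closure_le]
    rintro x (rfl | rfl)
    · exact S_mem g
    · exact (Sp F K).mul_mem (U_mem 1) w_mem
  obtain ⟨hU, hw⟩ := U_w_mem hg hg1 h1 h2
  intro u c
  exact X_all hHS hU hw u c

end Cfsg.Agent.H137.SpModel
end

-- part: H137/SpTransfer
section
/-!
# Two-generation of the symplectic groups (helper137)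
-/

set_option autoImplicit false

namespace Cfsg.Agent.H137

open Cfsg Cfsg.Agent.ClassicalGeometry.SympBasic Cfsg.Agent.H137.SpModel
open scoped Matrix

variable {F K : Type*} [Field F] [Field K] [Algebra F K] {k : ℕ}

theorem trace_equivFun [FiniteDimensional F K] [Algebra.IsSeparable F K] (b : Module.Basis (Fin k) F K)
    (s t : Fin k → F) :
    Algebra.trace F K (b.equivFun.symm s * b.traceDual.equivFun.symm t) = ∑ i, s i * t i := by
  rw [Module.Basis.equivFun_symm_apply, Module.Basis.equivFun_symm_apply, Finset.sum_mul, map_sum]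
  refine Finset.sum_congr rfl fun i _ => ?_
  rw [Finset.mul_sum, map_sum, Finset.sum_eq_single i]
  · rw [smul_mul_smul_comm, map_smul, b.trace_mul_traceDual, if_pos rfl, smul_eq_mul, mul_one]
  · intro j _ hj
    rw [smul_mul_smul_comm, map_smul, b.trace_mul_traceDual, if_neg (Ne.symm hj), smul_zero]
  · simp

/-- The isometry between the standard space and the model. -/
noncomputable def Phi [FiniteDimensional F K] [Algebra.IsSeparable F K] (b : Module.Basis (Fin k) F K) :
    (Fin (k + 1) ⊕ Fin (k + 1) → F) ≃ₗ[F] M F K where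
  toFun v := (b.equivFun.symm (fun i => v (Sum.inr i.succ)), b.traceDual.equivFun.symm (fun i => v (Sum.inl i.succ)),
    v (Sum.inr 0), v (Sum.inl 0))
  invFun u := Sum.elim (Fin.cons u.2.2.2 (b.traceDual.equivFun u.2.1)) (Fin.cons u.2.2.1 (b.equivFun u.1))
  map_add' u v := by
    have e1 : (fun i : Fin k => (u + v) (Sum.inr i.succ)) = (fun i : Fin k => u (Sum.inr i.succ)) +
      fun i : Fin k => v (Sum.inr i.succ) := rfl
    have e2 : (fun i : Fin k => (u + v) (Sum.inl i.succ)) = (fun i : Fin k => u (Sum.inl i.succ)) +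
      fun i : Fin k => v (Sum.inl i.succ) := rfl
    rw [e1, e2, map_add, map_add]
    rfl
  map_smul' c v := by
    have e1 : (fun i : Fin k => (c • v) (Sum.inr i.succ)) = c • (fun i : Fin k => v (Sum.inr i.succ)) := rfl
    have e2 : (fun i : Fin k => (c • v) (Sum.inl i.succ)) = c • (fun i : Fin k => v (Sum.inl i.succ)) := rfl
    rw [e1, e2, map_smul, map_smul]
    rfl
  left_inv v := by
    funext j
    rcases j with j | j
    · refine Fin.cases ?_ (fun j => ?_) j
      · rfl
      · show b.traceDual.equivFun (b.traceDual.equivFun.symm (fun i => v (Sum.inl i.succ))) j = _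
        rw [LinearEquiv.apply_symm_apply]
    · refine Fin.cases ?_ (fun j => ?_) j
      · rfl
      · show b.equivFun (b.equivFun.symm (fun i => v (Sum.inr i.succ))) j = _
        rw [LinearEquiv.apply_symm_apply]
  right_inv u := by
    have e1 : b.equivFun.symm (b.equivFun u.1) = u.1 := LinearEquiv.symm_apply_apply _ _
    have e2 : b.traceDual.equivFun.symm (b.traceDual.equivFun u.2.1) = u.2.1 :=
      LinearEquiv.symm_apply_apply _ _
    exact Prod.ext e1 (Prod.ext e2 rfl)

theorem Phi_apply [FiniteDimensional F K] [Algebra.IsSeparable F K] (b : Module.Basis (Fin k) F K)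
    (v : Fin (k + 1) ⊕ Fin (k + 1) → F) :
    Phi b v = (b.equivFun.symm (fun i => v (Sum.inr i.succ)),
      b.traceDual.equivFun.symm (fun i => v (Sum.inl i.succ)), v (Sum.inr 0), v (Sum.inl 0)) := rfl

theorem B_Phi [FiniteDimensional F K] [Algebra.IsSeparable F K] (b : Module.Basis (Fin k) F K)
    (u v : Fin (k + 1) ⊕ Fin (k + 1) → F) : B (Phi b u) (Phi b v) = sympForm (k + 1) F u v := by
  rw [B_def, Phi_apply, Phi_apply]
  simp only [trace_equivFun]
  rw [sympForm_eq_sum, Fin.sum_univ_succ, Finset.sum_sub_distrib]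
  have e : ∑ i : Fin k, v (Sum.inr i.succ) * u (Sum.inl i.succ) = ∑ i : Fin k, u (Sum.inl i.succ) * v (Sum.inr i.succ) :=
    Finset.sum_congr rfl fun i _ => mul_comm _ _
  rw [e]
  ring

/-- The homomorphism from the isometry group of the model to matrices. -/
noncomputable def psi [FiniteDimensional F K] [Algebra.IsSeparable F K] (b : Module.Basis (Fin k) F K) :
    Sp F K →* Matrix.symplecticGroup (Fin (k + 1)) F where
  toFun g := ⟨LinearMap.toMatrix' (((Phi b).trans ((g : M F K ≃ₗ[F] M F K).trans (Phi b).symm) :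
      (Fin (k + 1) ⊕ Fin (k + 1) → F) ≃ₗ[F] (Fin (k + 1) ⊕ Fin (k + 1) → F)) :
        (Fin (k + 1) ⊕ Fin (k + 1) → F) →ₗ[F] (Fin (k + 1) ⊕ Fin (k + 1) → F)), by
    rw [mem_symplecticGroup_iff]
    intro u v
    rw [LinearMap.toMatrix'_mulVec, LinearMap.toMatrix'_mulVec, ← B_Phi b, ← B_Phi b]
    simp only [LinearEquiv.coe_coe, LinearEquiv.trans_apply, LinearEquiv.apply_symm_apply]
    exact g.2 _ _⟩
  map_one' := by
    apply Subtype.ext
    rw [← Matrix.mulVec_injective.eq_iff]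
    funext x
    show LinearMap.toMatrix' _ *ᵥ x = (1 : Matrix _ _ F) *ᵥ x
    rw [LinearMap.toMatrix'_mulVec, Matrix.one_mulVec]
    simp
  map_mul' g h := by
    apply Subtype.ext
    rw [← Matrix.mulVec_injective.eq_iff]
    funext x
    show LinearMap.toMatrix' _ *ᵥ x = (LinearMap.toMatrix' _ * LinearMap.toMatrix' _) *ᵥ x
    rw [← Matrix.mulVec_mulVec, LinearMap.toMatrix'_mulVec, LinearMap.toMatrix'_mulVec,
      LinearMap.toMatrix'_mulVec]
    simp

theorem psi_mulVec [FiniteDimensional F K] [Algebra.IsSeparable F K] (b : Module.Basis (Fin k) F K) (g : Sp F K)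
    (v : Fin (k + 1) ⊕ Fin (k + 1) → F) :
    (psi b g : Matrix (Fin (k + 1) ⊕ Fin (k + 1)) (Fin (k + 1) ⊕ Fin (k + 1)) F) *ᵥ v =
      (Phi b).symm ((g : M F K ≃ₗ[F] M F K) (Phi b v)) := by
  show LinearMap.toMatrix' _ *ᵥ v = _
  rw [LinearMap.toMatrix'_mulVec]
  simp

/-- **Two-generation of `Sp_{2(k+1)}(q)`, `k ≥ 1`, `q ^ k ≠ 2`.** -/
theorem two_gen_Sp (F : Type*) [Field F] [Finite F] {k : ℕ} (hk : k ≠ 0) (hc : 2 < Nat.card F ^ k) :
    ∃ a b : Matrix.symplecticGroup (Fin (k + 1)) F,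
      Subgroup.closure ({a, b} : Set (Matrix.symplecticGroup (Fin (k + 1)) F)) = ⊤ := by
  obtain ⟨K, _, _, _, hK⟩ := exists_ext F k hk
  have : FiniteDimensional F K := Module.finite_of_finrank_pos (by omega)
  have : Algebra.IsSeparable F K := inferInstance
  let b : Module.Basis (Fin k) F K := (Module.finBasis F K).reindex (finCongr hK)
  have hcard : 2 < Nat.card K := by
    rwa [Module.natCard_eq_pow_finrank (K := F) (V := K), hK]
  obtain ⟨a, c, ha, hc', hac⟩ := exists_two (F := F) (K := K) hcard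
  refine ⟨psi b ⟨a, ha⟩, psi b ⟨c, hc'⟩, ?_⟩
  rw [eq_top_iff, ← Cfsg.Agent.S0765.result, Subgroup.closure_le]
  rintro A ⟨w, t, hA⟩
  obtain ⟨g, hg, hgv⟩ := hac (Phi b w) t
  have hgS : g ∈ Sp F K := by
    refine (?_ : Subgroup.closure {a, c} ≤ Sp F K) hg
    rw [Subgroup.closure_le]
    rintro x (rfl | rfl)
    · exact ha
    · exact hc'
  have e1 : psi b ⟨g, hgS⟩ = A := by
    apply Subtype.ext
    rw [← Matrix.mulVec_injective.eq_iff]
    funext x
    show (psi b ⟨g, hgS⟩ : Matrix (Fin (k + 1) ⊕ Fin (k + 1)) (Fin (k + 1) ⊕ Fin (k + 1)) F) *ᵥ x = A.1 *ᵥ x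
    rw [psi_mulVec, hA, sympTransvection_mulVec]
    show (Phi b).symm (g (Phi b x)) = _
    rw [hgv, map_add, map_smul, LinearEquiv.symm_apply_apply, LinearEquiv.symm_apply_apply, B_Phi]
  have e2 : (⟨g, hgS⟩ : Sp F K) ∈ Subgroup.closure ({⟨a, ha⟩, ⟨c, hc'⟩} : Set (Sp F K)) := by
    have e3 : Subgroup.map (Sp F K).subtype (Subgroup.closure ({⟨a, ha⟩, ⟨c, hc'⟩} : Set (Sp F K))) =
        Subgroup.closure {a, c} := by
      rw [MonoidHom.map_closure, Set.image_pair]
      rfl
    rw [← e3] at hg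
    obtain ⟨g', hg', e4⟩ := hg
    have e5 : g' = ⟨g, hgS⟩ := Subtype.ext e4
    rwa [e5] at hg'
  have e6 := Subgroup.mem_map_of_mem (psi b) e2
  rw [MonoidHom.map_closure, Set.image_pair, e1] at e6
  exact e6

end Cfsg.Agent.H137
end
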